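import Mathlib
import Cfsg.Agent.S4201
import Cfsg.Agent.S4202

/-!
# Groups acting on a finite abelian group with a nondegenerate alternating pairing
-/

set_option autoImplicit false

open scoped Classical

namespace Cfsg.Agent.CG26.Symp

/-- The class number. -/
noncomputable abbrev kk (G : Type*) [Group G] : ℕ := Nat.card (ConjClasses G)

theorem kk_le_card (G : Type*) [Group G] [Finite G] : kk G ≤ Nat.card G :=
  Nat.card_le_card_of_surjective _ ConjClasses.mk_surjective

theorem kk_congr {G H : Type*} [Group G] [Group H] (e : G ≃* H) : kk G = kk H :=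
  Nat.card_congr (Equiv.ofBijective (ConjClasses.map e.toMonoidHom)
    ⟨fun a b h => by
      induction a using Quotient.inductionOn with | _ a => ?_
      induction b using Quotient.inductionOn with | _ b => ?_
      change ConjClasses.mk (e a) = ConjClasses.mk (e b) at h
      show ConjClasses.mk a = ConjClasses.mk b
      rw [ConjClasses.mk_eq_mk_iff_isConj] at h ⊢
      simpa using MonoidHom.map_isConj e.symm.toMonoidHom h,
     ConjClasses.map_surjective e.surjective⟩)

/-- Class numbers multiply along a map. -/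
theorem kk_split {X Q : Type*} [Group X] [Finite X] [Group Q] (f : X →* Q) :
    kk X ≤ kk f.ker * kk f.range := by
  rw [← kk_congr (QuotientGroup.quotientKerEquivRange f)]
  exact Cfsg.Agent.S4201.result f.ker

/-- A group with a faithful action on `n ≥ 3` points. -/
theorem kk_perm {X α : Type} [Group X] [Finite X] [Finite α] (f : X →* Equiv.Perm α)
    (hf : Function.Injective f) (h3 : 3 ≤ Nat.card α) :
    kk X ^ 2 ≤ 3 ^ (Nat.card α - 1) := by
  have hbase : Cfsg.Agent.SqrtThree82.Base := by
    intro n h4 h7 H hH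
    obtain ⟨-, -, -, -, -, -, e4, e5, e6, e7⟩ := Cfsg.Agent.SqrtThree82.bN_facts
    rcases (show n = 4 ∨ n = 5 ∨ n = 6 ∨ n = 7 by omega) with rfl | rfl | rfl | rfl
    · have := Cfsg.Agent.SqrtThree82.base_four H; omega
    · have := Cfsg.Agent.SqrtThree82.base_five H; omega
    · have := Cfsg.Agent.SqrtThree82.base_six H; omega
    · have := Cfsg.Agent.SqrtThree82.base_seven H; omega
  rw [kk_congr (MonoidHom.ofInjective hf)]
  exact Cfsg.Agent.SqrtThree82.card_classes_sq hbase f.range h3

/-- A pairing preserved by a faithful action. -/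
structure Pairing (X V : Type) [Group X] [CommGroup V] where
  act : X →* MulAut V
  inj : Function.Injective act
  b : V → V → ℂˣ
  mul_right : ∀ x y z, b x (y * z) = b x y * b x z
  swap : ∀ x y, b y x = (b x y)⁻¹
  self : ∀ x, b x x = 1
  nondeg : ∀ x, x ≠ 1 → ∃ y, b x y ≠ 1
  inv : ∀ g x y, b (act g x) (act g y) = b x y

namespace Pairing

variable {X V : Type} [Group X] [CommGroup V] (P : Pairing X V)

theorem mul_left (x y z : V) : P.b (x * y) z = P.b x z * P.b y z := by
  rw [P.swap z (x * y), P.mul_right, mul_inv, ← P.swap z x, ← P.swap z y]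

theorem one_right (x : V) : P.b x 1 = 1 := by
  have h := P.mul_right x 1 1
  rw [mul_one] at h
  exact mul_eq_left.mp h.symm

theorem one_left (x : V) : P.b 1 x = 1 := by rw [P.swap x 1, P.one_right, inv_one]

/-- Pairing with a fixed element. -/
noncomputable def bh (x : V) : V →* ℂˣ where
  toFun := P.b x
  map_one' := P.one_right x
  map_mul' := P.mul_right x

theorem pow_right (x y : V) (n : ℕ) : P.b x (y ^ n) = P.b x y ^ n := map_pow (P.bh x) y n

theorem zpow_right (x y : V) (n : ℤ) : P.b x (y ^ n) = P.b x y ^ n := map_zpow (P.bh x) y n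

theorem pow_left (x y : V) (n : ℕ) : P.b (x ^ n) y = P.b x y ^ n := by
  rw [P.swap y (x ^ n), P.pow_right, ← inv_pow, ← P.swap y x]

theorem zpow_left (x y : V) (n : ℤ) : P.b (x ^ n) y = P.b x y ^ n := by
  rw [P.swap y (x ^ n), P.zpow_right, ← inv_zpow, ← P.swap y x]

/-- The orthogonal of a subgroup. -/
noncomputable def perp (W : Subgroup V) : Subgroup V where
  carrier := {v | ∀ w ∈ W, P.b w v = 1}
  one_mem' := fun w _ => P.one_right w
  mul_mem' := fun {a c} ha hc w hw => by rw [P.mul_right, ha w hw, hc w hw, mul_one]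
  inv_mem' := fun {a} ha w hw => by
    have h := P.mul_right w a a⁻¹
    rw [mul_inv_cancel, P.one_right, ha w hw, one_mul] at h
    exact h.symm

theorem mem_perp {W : Subgroup V} {v : V} : v ∈ P.perp W ↔ ∀ w ∈ W, P.b w v = 1 := Iff.rfl

theorem perp_closure {S : Set V} {v : V} (h : ∀ s ∈ S, P.b s v = 1) :
    v ∈ P.perp (Subgroup.closure S) := by
  intro w hw
  induction hw using Subgroup.closure_induction with
  | mem x hx => exact h x hx
  | one => exact P.one_left v
  | mul x y _ _ hx hy => rw [P.mul_left, hx, hy, mul_one]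
  | inv x _ hx => rw [← zpow_neg_one, P.zpow_left, hx, one_zpow]

theorem le_perp_perp (W : Subgroup V) : W ≤ P.perp (P.perp W) := fun w hw v hv => by
  rw [P.swap w v, hv w hw, inv_one]

theorem card_perp [Finite V] (W : Subgroup V) :
    Nat.card W * Nat.card (P.perp W) = Nat.card V := by
  rw [← (P.perp W).card_mul_index, mul_comm, Subgroup.index_eq_card]
  congr 1
  let f : V →* (W →* ℂˣ) :=
    MonoidHom.mk' (fun v => MonoidHom.mk' (fun w => P.b w v) fun a c => by
        simp only [Subgroup.coe_mul]; exact P.mul_left _ _ _)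
      fun u v => MonoidHom.ext fun w => P.mul_right _ u v
  have hker : f.ker = P.perp W := by
    ext v
    rw [MonoidHom.mem_ker, P.mem_perp]
    exact ⟨fun h w hw => DFunLike.congr_fun h ⟨w, hw⟩, fun h => MonoidHom.ext fun w => h w w.2⟩
  let g : W →* (V ⧸ P.perp W →* ℂˣ) :=
    MonoidHom.mk' (fun w => QuotientGroup.lift (P.perp W) (P.bh w) fun v hv => hv w w.2)
      fun u w => by
        refine MonoidHom.ext fun q => ?_
        induction q using QuotientGroup.induction_on with
        | _ v => exact P.mul_left _ _ _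
  have hg : Function.Injective g := by
    rw [injective_iff_map_eq_one]
    intro w hw
    by_contra hne
    obtain ⟨y, hy⟩ := P.nondeg w (fun h => hne (Subtype.ext h))
    exact hy (DFunLike.congr_fun hw (y : V ⧸ P.perp W))
  haveI : NeZero (Monoid.exponent W) := ⟨Monoid.exponent_ne_zero_of_finite⟩
  haveI : NeZero (Monoid.exponent (V ⧸ P.perp W)) := ⟨Monoid.exponent_ne_zero_of_finite⟩
  have e1 := CommGroup.card_monoidHom_of_hasEnoughRootsOfUnity W ℂ
  have e2 := CommGroup.card_monoidHom_of_hasEnoughRootsOfUnity (V ⧸ P.perp W) ℂ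
  haveI : Finite (W →* ℂˣ) := Nat.finite_of_card_ne_zero (by rw [e1]; exact Nat.card_pos.ne')
  haveI : Finite (V ⧸ P.perp W →* ℂˣ) :=
    Nat.finite_of_card_ne_zero (by rw [e2]; exact Nat.card_pos.ne')
  refine le_antisymm ?_ ?_
  · rw [← e2]
    exact Nat.card_le_card_of_injective g hg
  · rw [← hker, ← e1]
    exact Nat.card_le_card_of_injective _ (QuotientGroup.kerLift_injective f)

theorem perp_perp [Finite V] (W : Subgroup V) : P.perp (P.perp W) = W := by
  refine (Subgroup.eq_of_le_of_card_ge (P.le_perp_perp W) (le_of_eq ?_)).symm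
  have h1 := P.card_perp W
  have h2 := P.card_perp (P.perp W)
  refine Nat.eq_of_mul_eq_mul_left (Nat.card_pos (α := P.perp W)) ?_
  rw [h2, ← h1, mul_comm]

/-- Invariance under the whole group. -/
def Invar (W : Subgroup V) : Prop := ∀ g, ∀ w ∈ W, P.act g w ∈ W

theorem act_inv_apply (g : X) (v : V) : P.act g (P.act g⁻¹ v) = v := by
  rw [← MulAut.mul_apply, ← map_mul, mul_inv_cancel, map_one, MulAut.one_apply]

theorem invar_perp {W : Subgroup V} (hW : P.Invar W) : P.Invar (P.perp W) := fun g v hv w hw => by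
  rw [← P.act_inv_apply g w, P.inv]
  exact hv _ (hW _ _ hw)

/-- Restriction to a subgroup. -/
noncomputable def onSub (H : Subgroup X) : Pairing H V where
  act := P.act.comp H.subtype
  inj := P.inj.comp H.subtype_injective
  b := P.b
  mul_right := P.mul_right
  swap := P.swap
  self := P.self
  nondeg := P.nondeg
  inv := fun g => P.inv g

/-- The action on an invariant subgroup. -/
noncomputable def wact (W : Subgroup V) (hW : P.Invar W) : X →* MulAut W where
  toFun g :=
    { toFun := fun w => ⟨P.act g w, hW g w w.2⟩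
      invFun := fun w => ⟨P.act g⁻¹ w, hW g⁻¹ w w.2⟩
      left_inv := fun w => Subtype.ext (by
        show P.act g⁻¹ (P.act g w) = w
        simpa using P.act_inv_apply g⁻¹ (w : V))
      right_inv := fun w => Subtype.ext (P.act_inv_apply g w)
      map_mul' := fun u w => Subtype.ext (map_mul (P.act g) (u : V) w) }
  map_one' := MulEquiv.ext fun w => Subtype.ext (by
    show P.act 1 (w : V) = w
    rw [map_one, MulAut.one_apply])
  map_mul' := fun g h => MulEquiv.ext fun w => Subtype.ext (by
    show P.act (g * h) (w : V) = P.act g (P.act h w)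
    rw [map_mul, MulAut.mul_apply])

theorem mem_wact_ker {W : Subgroup V} {hW : P.Invar W} {g : X} :
    g ∈ (P.wact W hW).ker ↔ ∀ w ∈ W, P.act g w = w := by
  rw [MonoidHom.mem_ker]
  exact ⟨fun h w hw => congrArg Subtype.val (DFunLike.congr_fun h (⟨w, hw⟩ : W)),
    fun h => MulEquiv.ext fun w => Subtype.ext (h w w.2)⟩

theorem nd_perp [Finite V] {W : Subgroup V} (hnd : W ⊓ P.perp W = ⊥) :
    P.perp W ⊓ P.perp (P.perp W) = ⊥ := by
  rw [P.perp_perp, inf_comm, hnd]

theorem sup_perp [Finite V] {W : Subgroup V} (hnd : W ⊓ P.perp W = ⊥) :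
    W ⊔ P.perp W = ⊤ := by
  refine Subgroup.eq_top_of_le_card _ ?_
  rw [← P.card_perp W, ← Nat.card_prod]
  refine Nat.card_le_card_of_injective (fun p : W × P.perp W =>
    (⟨(p.1 : V) * p.2, mul_mem (Subgroup.mem_sup_left p.1.2) (Subgroup.mem_sup_right p.2.2)⟩ :
      (W ⊔ P.perp W : Subgroup V))) fun p q h => ?_
  exact Subgroup.mul_injective_of_disjoint (disjoint_iff.mpr hnd) (congrArg Subtype.val h)

theorem nondeg_sub [Finite V] {W : Subgroup V} (hnd : W ⊓ P.perp W = ⊥) (x : W) (hx : x ≠ 1) :
    ∃ y : W, P.b x y ≠ 1 := by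
  by_contra h
  push Not at h
  have h1 : (x : V) ∈ W ⊓ P.perp W := ⟨x.2, fun w hw => by
    rw [P.swap (x : V) w, h ⟨w, hw⟩, inv_one]⟩
  rw [hnd, Subgroup.mem_bot] at h1
  exact hx (Subtype.ext h1)

/-- The action on a nondegenerate invariant subgroup. -/
noncomputable def image [Finite V] (W : Subgroup V) (hW : P.Invar W) (hnd : W ⊓ P.perp W = ⊥) :
    Pairing (P.wact W hW).range W where
  act := (P.wact W hW).range.subtype
  inj := Subgroup.subtype_injective _
  b := fun x y => P.b x y
  mul_right := fun x y z => P.mul_right _ _ _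
  swap := fun x y => P.swap _ _
  self := fun x => P.self _
  nondeg := P.nondeg_sub hnd
  inv := by
    rintro ⟨_, g, rfl⟩ x y
    exact P.inv g x y

/-- The kernel acts faithfully on the orthogonal. -/
noncomputable def kerPair [Finite V] (W : Subgroup V) (hW : P.Invar W) (hnd : W ⊓ P.perp W = ⊥) :
    Pairing (P.wact W hW).ker (P.perp W) where
  act := (P.wact (P.perp W) (P.invar_perp hW)).comp (P.wact W hW).ker.subtype
  inj := by
    rw [injective_iff_map_eq_one]
    intro g hg
    refine Subtype.ext (P.inj (MulEquiv.ext fun v => ?_))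
    rw [OneMemClass.coe_one, map_one, MulAut.one_apply]
    obtain ⟨w, hw, u, hu, rfl⟩ := Subgroup.mem_sup_of_normal_right.mp
      (P.sup_perp hnd ▸ Subgroup.mem_top v)
    have h1 := P.mem_wact_ker.mp g.2 w hw
    have h2 : P.act (g : X) u = u :=
      congrArg Subtype.val (DFunLike.congr_fun hg (⟨u, hu⟩ : P.perp W))
    rw [map_mul, h1, h2]
  b := fun x y => P.b x y
  mul_right := fun x y z => P.mul_right _ _ _
  swap := fun x y => P.swap _ _
  self := fun x => P.self _
  nondeg := P.nondeg_sub (P.nd_perp hnd)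
  inv := fun g x y => P.inv (g : X) x y

end Pairing

/-- An upper bound for the class number of every group preserving a pairing on a group of this
order and exponent. -/
def Bnd (N n k : ℕ) : Prop :=
  ∀ (X V : Type) [Group X] [Finite X] [CommGroup V] [Finite V] (_ : Pairing X V),
    Nat.card V = N → (∀ v : V, v ^ n = 1) → kk X ≤ k

/-- A splitting gives a product bound. -/
theorem kk_pair_split {X V : Type} [Group X] [Finite X] [CommGroup V] [Finite V] (P : Pairing X V)
    {N₁ N₂ n₁ n₂ k₁ k₂ : ℕ} (B₁ : Bnd N₁ n₁ k₁) (B₂ : Bnd N₂ n₂ k₂)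
    (W : Subgroup V) (hW : P.Invar W) (hnd : W ⊓ P.perp W = ⊥)
    (h1 : Nat.card W = N₁) (e1 : ∀ v ∈ W, v ^ n₁ = 1)
    (h2 : Nat.card (P.perp W) = N₂) (e2 : ∀ v ∈ P.perp W, v ^ n₂ = 1) :
    kk X ≤ k₁ * k₂ := by
  have hb := kk_split (P.wact W hW)
  have hr : kk (P.wact W hW).range ≤ k₁ :=
    B₁ _ _ (P.image W hW hnd) h1 fun v => Subtype.ext (e1 v v.2)
  have hk : kk (P.wact W hW).ker ≤ k₂ :=
    B₂ _ _ (P.kerPair W hW hnd) h2 fun v => Subtype.ext (e2 v v.2)
  calc kk X ≤ _ := hb
    _ ≤ k₂ * k₁ := Nat.mul_le_mul hk hr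
    _ = _ := Nat.mul_comm _ _

end Cfsg.Agent.CG26.Symp
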