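import Cfsg.Agent.CG26.Symp.SixtyFour

/-!
# The bound for solvable groups preserving a pairing without invariant isotropic subgroups
-/

set_option autoImplicit false

open scoped Classical

namespace Cfsg.Agent.CG26.Symp

theorem crude_num : ∀ e : ℕ, 16 ≤ e → e ^ 6 ≤ 2 * 3 ^ (e - 1) := by
  intro e he
  induction e, he using Nat.le_induction with
  | base => norm_num
  | succ n hn ih =>
    have hb : (n + 1) ^ 6 ≤ 3 * n ^ 6 := by
      have h2 : (5 * (n + 1)) ^ 6 ≤ (6 * n) ^ 6 := Nat.pow_le_pow_left (by omega) 6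
      rw [mul_pow, mul_pow] at h2
      norm_num at h2
      omega
    have h3 : 2 * 3 ^ (n + 1 - 1) = 3 * (2 * 3 ^ (n - 1)) := by
      rw [show n + 1 - 1 = (n - 1) + 1 by omega, pow_succ]; ring
    rw [h3]
    omega

namespace Pairing

variable {Y V : Type} [Group Y] [CommGroup V] (P : Pairing Y V)

/-- The orders of the elements are squarefree. -/
theorem squarefree_exponent [Finite V]
    (hTI : ∀ W : Subgroup V, P.Invar W → (∀ u ∈ W, ∀ v ∈ W, P.b u v = 1) → W = ⊥) :
    Squarefree (Monoid.exponent V) := by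
  rw [Nat.squarefree_iff_prime_squarefree]
  intro q hq hdvd
  obtain ⟨t, ht⟩ : q ∣ Monoid.exponent V := (dvd_mul_right q q).trans hdvd
  have hqt : q ∣ t := by
    rw [ht] at hdvd
    exact Nat.dvd_of_mul_dvd_mul_left hq.pos hdvd
  have hE : Monoid.exponent V ≠ 0 := Monoid.exponent_ne_zero_of_finite
  let W : Subgroup V := (powMonoidHom t).range
  have hW : P.Invar W := by
    rintro g w ⟨a, rfl⟩
    exact ⟨P.act g a, (map_pow (P.act g) a t).symm⟩
  have hiso : ∀ u ∈ W, ∀ v ∈ W, P.b u v = 1 := by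
    rintro u ⟨a, rfl⟩ v ⟨c, rfl⟩
    show P.b (a ^ t) (c ^ t) = 1
    rw [P.pow_left, P.pow_right, ← pow_mul]
    have hn : P.b a c ^ Monoid.exponent V = 1 := by
      rw [← P.pow_right, Monoid.pow_exponent_eq_one, P.one_right]
    obtain ⟨s, rfl⟩ := hqt
    rw [ht] at hn
    rw [show q * s * (q * s) = q * (q * s) * s by ring, pow_mul, hn, one_pow]
  have hbot := hTI W hW hiso
  have hall : ∀ v : V, v ^ t = 1 := fun v => Subgroup.mem_bot.mp (hbot ▸ (⟨v, rfl⟩ : v ^ t ∈ W))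
  have := Nat.le_of_dvd (Nat.pos_of_ne_zero (fun h => hE (by rw [ht, h, mul_zero])))
    (Monoid.exponent_dvd_of_forall_pow_eq_one hall)
  have := hq.two_le
  rw [ht] at *
  have : 0 < t := Nat.pos_of_ne_zero (right_ne_zero_of_mul hE)
  nlinarith

theorem pow_eq_one_of_card [Finite V]
    (hTI : ∀ W : Subgroup V, P.Invar W → (∀ u ∈ W, ∀ v ∈ W, P.b u v = 1) → W = ⊥)
    {n k : ℕ} (hV : Nat.card V ∣ n ^ k) (v : V) : v ^ n = 1 := by
  apply orderOf_dvd_iff_pow_eq_one.mp
  have hs : Squarefree (orderOf v) :=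
    (P.squarefree_exponent hTI).squarefree_of_dvd (Monoid.order_dvd_exponent v)
  rcases Nat.eq_zero_or_pos k with rfl | hk
  · rw [pow_zero, Nat.dvd_one] at hV
    haveI := (Nat.card_eq_one_iff_unique.mp hV).1
    rw [Subsingleton.elim v 1, orderOf_one]
    exact one_dvd _
  exact (hs.dvd_pow_iff_dvd hk.ne').mp ((orderOf_dvd_natCard v).trans hV)

include P in
theorem kk_coprime [Finite Y] [Finite V] {m n a c k₁ k₂ : ℕ} (hV : Nat.card V = (m * n) ^ 2)
    (hexp : ∀ v : V, v ^ (a * c) = 1) (hac : Nat.Coprime a c) (ham : Nat.Coprime a n)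
    (hcm : Nat.Coprime c m) (B₁ : Bnd (m ^ 2) a k₁) (B₂ : Bnd (n ^ 2) c k₂) (X : Subgroup Y) :
    kk X ≤ k₁ * k₂ := by
  let W : Subgroup V := (powMonoidHom a).ker
  have hWm : ∀ v, v ∈ W ↔ v ^ a = 1 := fun v => Iff.rfl
  have hnd : W ⊓ P.perp W = ⊥ := by
    rw [eq_bot_iff]
    rintro x ⟨hx, hx'⟩
    rw [Subgroup.mem_bot]
    by_contra hne
    obtain ⟨v, hv⟩ := P.nondeg x hne
    apply hv
    have h1 : P.b x v ^ a = 1 := by rw [← P.pow_left, (hWm x).mp hx, P.one_left]
    have hvW : v ^ c ∈ W := by rw [hWm, ← pow_mul, mul_comm c a, hexp]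
    have h2 : P.b x v ^ c = 1 := by rw [← P.pow_right, P.swap (v ^ c) x, hx' _ hvW, inv_one]
    have := (pow_gcd_eq_one (a := P.b x v)).mpr ⟨h1, h2⟩
    rwa [hac.gcd_eq_one, pow_one] at this
  have e1 : ∀ v ∈ W, v ^ a = 1 := fun v hv => (hWm v).mp hv
  have e2 : ∀ v ∈ P.perp W, v ^ c = 1 := fun v hv => by
    have h1 : v ^ c ∈ W ⊓ P.perp W := ⟨(hWm _).mpr (by rw [← pow_mul, mul_comm c a, hexp]),
      pow_mem hv c⟩
    rw [hnd] at h1
    exact h1
  have cop : ∀ (U : Subgroup V) (s t : ℕ), (∀ v ∈ U, v ^ s = 1) → Nat.Coprime s t →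
      Nat.Coprime (Nat.card U) (t ^ 2) := by
    intro U s t hU hst
    refine Nat.Coprime.pow_right 2 (Nat.coprime_of_dvd fun q hq hqU hqt => hq.ne_one ?_)
    haveI := Fact.mk hq
    obtain ⟨u, hu⟩ := exists_prime_orderOf_dvd_card' q hqU
    have hqs : q ∣ s := by
      rw [← hu]
      exact orderOf_dvd_of_pow_eq_one (Subtype.ext (by simpa using hU u u.2))
    exact Nat.dvd_one.mp (hst ▸ Nat.dvd_gcd hqs hqt)
  have hmul := P.card_perp W
  rw [hV, mul_pow] at hmul
  have d1 : Nat.card W ∣ m ^ 2 :=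
    (cop W a n e1 ham).dvd_of_dvd_mul_right (Dvd.intro _ hmul)
  have d2 : Nat.card (P.perp W) ∣ n ^ 2 :=
    (cop _ c m e2 hcm).dvd_of_dvd_mul_left (Dvd.intro_left _ hmul)
  have hpos : 0 < m ^ 2 * n ^ 2 := by rw [← hmul]; exact Nat.mul_pos Nat.card_pos Nat.card_pos
  have h1 := Nat.le_of_dvd (Nat.pos_of_mul_pos_right hpos) d1
  have h2 := Nat.le_of_dvd (Nat.pos_of_mul_pos_left hpos) d2
  have hc1 : Nat.card W = m ^ 2 := by
    by_contra hne
    have := Nat.mul_lt_mul_of_lt_of_le (lt_of_le_of_ne h1 hne) h2 (Nat.pos_of_mul_pos_left hpos)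
    omega
  have hc2 : Nat.card (P.perp W) = n ^ 2 := by
    rw [hc1] at hmul
    exact Nat.eq_of_mul_eq_mul_left (Nat.pos_of_mul_pos_right hpos) hmul
  refine kk_pair_split (P.onSub X) B₁ B₂ W ?_ hnd hc1 e1 hc2 e2
  intro g w hw
  rw [hWm] at hw ⊢
  show (P.act (g : Y) w) ^ a = 1
  rw [← map_pow, hw, map_one]

include P in
theorem kk_bound [Finite Y] [Finite V] [Group.IsSolvable Y] {e : ℕ} (hV : Nat.card V = e ^ 2)
    (hcrude : 1 < e → Nat.card Y * 2 ≤ e ^ 6)
    (hTI : ∀ W : Subgroup V, P.Invar W → (∀ u ∈ W, ∀ v ∈ W, P.b u v = 1) → W = ⊥)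
    (X : Subgroup Y) : kk X ≤ 3 ^ (e - 1) := by
  have hexp : ∀ {n k : ℕ}, Nat.card V ∣ n ^ k → ∀ v : V, v ^ n = 1 :=
    fun h v => P.pow_eq_one_of_card hTI h v
  have he0 : e ≠ 0 := by
    rintro rfl
    rw [zero_pow two_ne_zero] at hV
    exact Nat.card_pos.ne' hV
  rcases Nat.lt_or_ge e 16 with h16 | h16
  swap
  · have h1 := (kk_le_card X).trans (Subgroup.card_le_card_group X)
    have h2 := hcrude (by omega)
    have h3 := crude_num e h16
    omega
  have two : Nat.Prime 2 := Nat.prime_two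
  have three : Nat.Prime 3 := Nat.prime_three
  have he1 : 1 ≤ e := Nat.one_le_iff_ne_zero.mpr he0
  interval_cases e
  · haveI : Subsingleton V := (Nat.card_eq_one_iff_unique.mp hV).1
    haveI : Subsingleton Y := ⟨fun g h => P.inj (MulEquiv.ext fun v => Subsingleton.elim _ _)⟩
    exact (kk_le_card _).trans (Finite.card_le_one_iff_subsingleton.mpr inferInstance)
  · exact bnd_four _ _ (P.onSub X) hV (hexp (n := 2) (k := 2) hV.dvd)
  · exact (bnd_sq three _ _ (P.onSub X) hV (hexp (n := 3) (k := 2) hV.dvd)).trans (by norm_num)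
  · exact (bnd_sixteen _ _ (P.onSub X) (hV.trans (by norm_num))
      (hexp (n := 2) (k := 4) (hV.trans (by norm_num)).dvd)).trans (by norm_num)
  · exact (bnd_sq (by norm_num : Nat.Prime 5) _ _ (P.onSub X) hV (hexp (n := 5) (k := 2) hV.dvd)).trans
      (by norm_num)
  · exact (P.kk_coprime (m := 2) (n := 3) (a := 2) (c := 3) hV (hexp (n := 6) (k := 2) hV.dvd)
      (by norm_num) (by norm_num) (by norm_num) bnd_four (bnd_sq three) X).trans (by norm_num)
  · exact (bnd_sq (by norm_num : Nat.Prime 7) _ _ (P.onSub X) hV (hexp (n := 7) (k := 2) hV.dvd)).trans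
      (by norm_num)
  · exact (P.bnd_sixtyfour (hV.trans (by norm_num))
      (hexp (n := 2) (k := 6) (hV.trans (by norm_num)).dvd) hTI X).trans (by norm_num)
  · exact (bnd_eightyone _ _ (P.onSub X) (hV.trans (by norm_num))
      (hexp (n := 3) (k := 4) (hV.trans (by norm_num)).dvd)).trans (by norm_num)
  · exact (P.kk_coprime (m := 2) (n := 5) (a := 2) (c := 5) hV (hexp (n := 10) (k := 2) hV.dvd)
      (by norm_num) (by norm_num) (by norm_num) bnd_four (bnd_sq (by norm_num)) X).trans (by norm_num)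
  · exact (bnd_sq (by norm_num : Nat.Prime 11) _ _ (P.onSub X) hV (hexp (n := 11) (k := 2) hV.dvd)).trans
      (by norm_num)
  · exact (P.kk_coprime (m := 4) (n := 3) (a := 2) (c := 3) hV
      (hexp (n := 6) (k := 4) (hV ▸ (by norm_num : (12 : ℕ) ^ 2 ∣ 6 ^ 4)))
      (by norm_num) (by norm_num) (by norm_num) bnd_sixteen (bnd_sq three) X).trans (by norm_num)
  · exact (bnd_sq (by norm_num : Nat.Prime 13) _ _ (P.onSub X) hV (hexp (n := 13) (k := 2) hV.dvd)).trans
      (by norm_num)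
  · exact (P.kk_coprime (m := 2) (n := 7) (a := 2) (c := 7) hV (hexp (n := 14) (k := 2) hV.dvd)
      (by norm_num) (by norm_num) (by norm_num) bnd_four (bnd_sq (by norm_num)) X).trans (by norm_num)
  · exact (P.kk_coprime (m := 3) (n := 5) (a := 3) (c := 5) hV (hexp (n := 15) (k := 2) hV.dvd)
      (by norm_num) (by norm_num) (by norm_num) (bnd_sq three) (bnd_sq (by norm_num)) X).trans (by norm_num)

end Pairing

end Cfsg.Agent.CG26.Symp
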