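import Cfsg.Agent.CG26.Symp.Six

/-!
# Splittings of six dimensions over two elements
-/

set_option autoImplicit false

open scoped Classical

namespace Cfsg.Agent.CG26.Symp

theorem kk_index {X : Type} [Group X] [Finite X] (H : Subgroup X) : kk X ≤ H.index * kk H :=
  (Cfsg.Agent.S4200.result H).2.1

namespace Pairing

variable {X V : Type} [Group X] [CommGroup V] (P : Pairing X V)

theorem pair_mem_two (hexp : ∀ v : V, v ^ 2 = 1) {x y v : V}
    (hv : v ∈ Subgroup.closure ({x, y} : Set V)) : v = 1 ∨ v = x ∨ v = y ∨ v = x * y := by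
  obtain ⟨i, j, rfl⟩ := Subgroup.mem_closure_pair.mp hv
  have h : ∀ (u : V) (n : ℤ), u ^ n = 1 ∨ u ^ n = u := by
    intro u n
    have h2 : u ^ (2 : ℤ) = 1 := (zpow_natCast u 2).trans (hexp u)
    rcases Int.emod_two_eq n with h | h
    · left
      rw [← Int.emod_add_mul_ediv n 2, h, zero_add, zpow_mul, h2, one_zpow]
    · right
      rw [← Int.emod_add_mul_ediv n 2, h, zpow_add, zpow_one, zpow_mul, h2, one_zpow, mul_one]
  rcases h x i with hx | hx <;> rcases h y j with hy | hy <;> simp [hx, hy]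

theorem pair_nd [Finite V] (hexp : ∀ v : V, v ^ 2 = 1) {x y : V} (h : P.b x y ≠ 1) :
    Subgroup.closure {x, y} ⊓ P.perp (Subgroup.closure {x, y}) = ⊥ ∧
      Nat.card (Subgroup.closure ({x, y} : Set V)) = 4 := by
  have hxU : x ∈ Subgroup.closure ({x, y} : Set V) := Subgroup.subset_closure (by simp)
  have hyU : y ∈ Subgroup.closure ({x, y} : Set V) := Subgroup.subset_closure (by simp)
  have hyx : P.b y x ≠ 1 := by rwa [P.swap x y, ne_eq, inv_eq_one]
  have hnd : Subgroup.closure {x, y} ⊓ P.perp (Subgroup.closure {x, y}) = ⊥ := by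
    rw [eq_bot_iff]
    rintro v ⟨hv, hv'⟩
    have h1 := hv' x hxU
    have h2 := hv' y hyU
    rcases pair_mem_two hexp hv with rfl | rfl | rfl | rfl
    · simp
    · exact absurd h2 hyx
    · exact absurd h1 h
    · rw [P.mul_right, P.self, one_mul] at h1
      exact absurd h1 h
  refine ⟨hnd, le_antisymm ?_ ?_⟩
  · have hsub : (Subgroup.closure ({x, y} : Set V) : Set V) ⊆ ({1, x, y, x * y} : Set V) :=
      fun v hv => by simpa using pair_mem_two hexp hv
    refine (Set.ncard_le_ncard hsub (Set.toFinite _)).trans ?_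
    calc Set.ncard ({1, x, y, x * y} : Set V) ≤ ({x, y, x * y} : Set V).ncard + 1 := Set.ncard_insert_le _ _
      _ ≤ (({y, x * y} : Set V).ncard + 1) + 1 := by gcongr; exact Set.ncard_insert_le _ _
      _ ≤ ((({x * y} : Set V).ncard + 1) + 1) + 1 := by gcongr; exact Set.ncard_insert_le _ _
      _ = 4 := by rw [Set.ncard_singleton]
  · have hne : x ≠ 1 := by rintro rfl; exact h (P.one_left y)
    have hy1 : y ≠ 1 := by rintro rfl; exact h (P.one_right x)
    have hxy : x ≠ y := by rintro rfl; exact h (P.self x)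
    have hp : x * y ≠ 1 := fun e => by
      have := congrArg (P.b x) e
      rw [P.mul_right, P.self, one_mul, P.one_right] at this
      exact h this
    have h4 : ({1, x, y, x * y} : Set V).ncard = 4 := by
      rw [Set.ncard_insert_of_notMem, Set.ncard_insert_of_notMem, Set.ncard_pair]
      · exact fun e => hne (mul_eq_right.mp e.symm)
      · simp only [Set.mem_insert_iff, Set.mem_singleton_iff, not_or]
        exact ⟨hxy, fun e => hy1 (mul_eq_left.mp e.symm)⟩
      · simp [hne.symm, hy1.symm, hp.symm]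
    refine h4.symm.le.trans (Set.ncard_le_ncard (fun v hv => ?_) (Set.toFinite _))
    rcases hv with rfl | rfl | rfl | rfl
    · exact one_mem _
    · exact hxU
    · exact hyU
    · exact mul_mem hxU hyU

theorem card_nd_cases [Finite V] (hV : Nat.card V = 64) (hexp : ∀ v : V, v ^ 2 = 1) {W : Subgroup V}
    (hnd : W ⊓ P.perp W = ⊥) (h1 : W ≠ ⊥) (h2 : W ≠ ⊤) :
    (Nat.card W = 4 ∧ Nat.card (P.perp W) = 16) ∨ (Nat.card W = 16 ∧ Nat.card (P.perp W) = 4) := by
  have key : ∀ U : Subgroup V, U ⊓ P.perp U = ⊥ → Nat.card U ≠ 2 ∧ Nat.card U ≠ 8 := by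
    intro U hU
    have two : ∀ R : Subgroup V, R ⊓ P.perp R = ⊥ → Nat.card R ≠ 2 := by
      intro R hR hc
      obtain ⟨r, hr, hr1⟩ : ∃ r ∈ R, r ≠ 1 := by
        by_contra h
        push Not at h
        rw [(Subgroup.eq_bot_iff_forall R).mpr h, Subgroup.card_bot] at hc
        omega
      have hmem : r ∈ R ⊓ P.perp R := ⟨hr, fun w hw => by
        by_contra hne
        have hw1 : w ≠ 1 := by rintro rfl; exact hne (P.one_left r)
        have hwr : w ≠ r := by rintro rfl; exact hne (P.self w)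
        have h3 : ({1, r, w} : Set V).ncard ≤ (R : Set V).ncard :=
          Set.ncard_le_ncard (fun v hv => by
            rcases hv with rfl | rfl | rfl
            · exact one_mem _
            · exact hr
            · exact hw) (Set.toFinite _)
        rw [Set.ncard_insert_of_notMem (by simp [hr1.symm, hw1.symm]),
          Set.ncard_pair hwr.symm] at h3
        have h4 : (R : Set V).ncard = Nat.card R := rfl
        omega⟩
      rw [hR, Subgroup.mem_bot] at hmem
      exact hr1 hmem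
    refine ⟨two U hU, fun hc => ?_⟩
    obtain ⟨x, hx, hx1⟩ : ∃ x ∈ U, x ≠ 1 := by
      by_contra h
      push Not at h
      rw [(Subgroup.eq_bot_iff_forall U).mpr h, Subgroup.card_bot] at hc
      omega
    obtain ⟨⟨y, hy⟩, hxy⟩ := P.nondeg_sub hU ⟨x, hx⟩ (fun e => hx1 (congrArg Subtype.val e))
    obtain ⟨hT, hT4⟩ := P.pair_nd hexp (x := x) (y := y) hxy
    set T := Subgroup.closure ({x, y} : Set V) with hTdef
    have hTU : T ≤ U := (Subgroup.closure_le _).mpr (by
      intro v hv; rcases hv with rfl | rfl <;> assumption)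
    have hR : (U ⊓ P.perp T) ⊓ P.perp (U ⊓ P.perp T) = ⊥ := by
      rw [eq_bot_iff]
      rintro v ⟨⟨hvU, hvT⟩, hv⟩
      have : v ∈ U ⊓ P.perp U := ⟨hvU, fun w hw => by
        obtain ⟨t, ht, r, hr, rfl⟩ := Subgroup.mem_sup_of_normal_right.mp
          (P.sup_perp hT ▸ Subgroup.mem_top w)
        have hrU : r ∈ U := by
          have := mul_mem (inv_mem (hTU ht)) hw
          rwa [inv_mul_cancel_left] at this
        rw [P.mul_left, hvT t ht, hv r ⟨hrU, hr⟩, mul_one]⟩
      rwa [hU] at this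
    refine two _ hR ?_
    have e : Nat.card U = Nat.card T * Nat.card (U ⊓ P.perp T : Subgroup V) := by
      rw [← Nat.card_prod]
      refine (Nat.card_congr (Equiv.ofBijective
        (fun p : T × (U ⊓ P.perp T : Subgroup V) => (⟨(p.1 : V) * p.2, mul_mem (hTU p.1.2) p.2.2.1⟩ : U))
        ⟨fun p q h => ?_, fun u => ?_⟩)).symm
      · have h' : (p.1 : V) * p.2 = q.1 * q.2 := congrArg Subtype.val h
        have := Subgroup.mul_injective_of_disjoint (disjoint_iff.mpr hT)
          (a₁ := ((p.1, ⟨p.2, p.2.2.2⟩) : T × P.perp T)) (a₂ := (q.1, ⟨q.2, q.2.2.2⟩)) h'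
        simp only [Prod.mk.injEq, Subtype.mk.injEq] at this
        exact Prod.ext this.1 (Subtype.ext this.2)
      · obtain ⟨t, ht, r, hr, e⟩ := Subgroup.mem_sup_of_normal_right.mp
          (P.sup_perp hT ▸ Subgroup.mem_top (u : V))
        have hrU : r ∈ U := by
          have := mul_mem (inv_mem (hTU ht)) u.2
          rwa [← e, inv_mul_cancel_left] at this
        exact ⟨(⟨t, ht⟩, ⟨r, hrU, hr⟩), Subtype.ext e⟩
    rw [hc, hT4] at e
    omega
  obtain ⟨k1, k2⟩ := key W hnd
  obtain ⟨k3, k4⟩ := key _ (P.nd_perp hnd)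
  have hmul := P.card_perp W
  have hd : Nat.card W ∣ 2 ^ 6 := Dvd.intro _ (hmul.trans hV)
  obtain ⟨i, hi, hc⟩ := (Nat.dvd_prime_pow Nat.prime_two).mp hd
  have hW1 : Nat.card W ≠ 1 := fun e => h1 (Subgroup.card_eq_one.mp e)
  have hW2 : Nat.card W ≠ 64 := fun e => h2 (Subgroup.eq_top_of_card_eq _ (e.trans hV.symm))
  rw [hV, hc] at hmul
  rw [hc] at k1 k2 hW1 hW2
  interval_cases i <;> first | omega | (norm_num at hmul hc k1 k2 hW1 hW2; done) | (norm_num at hmul hc; omega)

theorem kk_of_nd [Finite X] [Finite V] (hV : Nat.card V = 64) (hexp : ∀ v : V, v ^ 2 = 1)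
    {W : Subgroup V} (hW : P.Invar W) (hnd : W ⊓ P.perp W = ⊥) (h1 : W ≠ ⊥) (h2 : W ≠ ⊤) :
    kk X ≤ 45 := by
  rcases P.card_nd_cases hV hexp hnd h1 h2 with ⟨a, c⟩ | ⟨a, c⟩
  · exact kk_pair_split P bnd_four bnd_sixteen W hW hnd a (fun v _ => hexp v) c (fun v _ => hexp v)
  · exact kk_pair_split P bnd_sixteen bnd_four W hW hnd a (fun v _ => hexp v) c (fun v _ => hexp v)

include P in
theorem card_dvd_four [Finite X] [Finite V] (hV : Nat.card V = 4) : Nat.card X ∣ 6 := by
  have h := Subgroup.card_dvd_of_injective P.permNe P.permNe_injective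
  rwa [Nat.card_perm, card_ne, hV] at h

include P in
theorem card_dvd_sixteen [Finite X] [Finite V] (hV : Nat.card V = 16) (hexp : ∀ v : V, v ^ 2 = 1) :
    Nat.card X ∣ 720 := by
  obtain ⟨f, hf⟩ := exists_six P hV hexp
  have h := Subgroup.card_dvd_of_injective f hf
  rwa [Nat.card_perm, Nat.card_fin] at h

theorem card_dvd_of_nd [Finite X] [Finite V] (hV : Nat.card V = 64) (hexp : ∀ v : V, v ^ 2 = 1)
    {W : Subgroup V} (hW : P.Invar W) (hnd : W ⊓ P.perp W = ⊥) (h1 : W ≠ ⊥) (h2 : W ≠ ⊤) :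
    Nat.card X ∣ 4320 := by
  let w₁ := P.wact W hW
  let w₂ := P.wact (P.perp W) (P.invar_perp hW)
  have hinj : Function.Injective ((w₁.rangeRestrict).prod w₂.rangeRestrict) := by
    rw [injective_iff_map_eq_one]
    intro g hg
    have e1 : g ∈ w₁.ker := MonoidHom.mem_ker.mpr (congrArg (fun p => (p.1 : MulAut W)) hg)
    have e2 : g ∈ w₂.ker := MonoidHom.mem_ker.mpr (congrArg (fun p => (p.2 : MulAut (P.perp W))) hg)
    refine congrArg Subtype.val ((P.kerPair W hW hnd).inj
      (a₁ := (⟨g, e1⟩ : w₁.ker)) (a₂ := 1) ?_)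
    rw [map_one]
    exact MonoidHom.mem_ker.mp e2
  refine (Subgroup.card_dvd_of_injective _ hinj).trans ?_
  rw [Nat.card_prod, show (4320 : ℕ) = 6 * 720 from rfl]
  rcases P.card_nd_cases hV hexp hnd h1 h2 with ⟨a, c⟩ | ⟨a, c⟩
  · exact Nat.mul_dvd_mul ((P.image W hW hnd).card_dvd_four a)
      ((P.image _ (P.invar_perp hW) (P.nd_perp hnd)).card_dvd_sixteen c
        fun v => Subtype.ext (hexp v))
  · rw [mul_comm]
    exact Nat.mul_dvd_mul ((P.image _ (P.invar_perp hW) (P.nd_perp hnd)).card_dvd_four c)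
      ((P.image W hW hnd).card_dvd_sixteen a fun v => Subtype.ext (hexp v))

/-- The fixed points. -/
noncomputable def fixed (a : X) : Subgroup V :=
  (P.act a).toMonoidHom.eqLocus (MonoidHom.id V)

theorem mem_fixed {a : X} {v : V} : v ∈ P.fixed a ↔ P.act a v = v := Iff.rfl

theorem fixed_nd (hexp : ∀ v : V, v ^ 2 = 1) {a : X} {q : ℕ} (hq : a ^ q = 1) (hodd : Odd q) :
    P.fixed a ⊓ P.perp (P.fixed a) = ⊥ := by
  rw [eq_bot_iff]
  rintro x ⟨hx, hx'⟩
  rw [Subgroup.mem_bot]
  by_contra hne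
  obtain ⟨v, hv⟩ := P.nondeg x hne
  apply hv
  have hxi : ∀ i : ℕ, P.act (a ^ i) x = x := by
    intro i
    induction i with
    | zero => simp
    | succ i ih => rw [pow_succ, map_mul, MulAut.mul_apply, P.mem_fixed.mp hx, ih]
  let N : V := ∏ i ∈ Finset.range q, P.act (a ^ i) v
  have hN : N ∈ P.fixed a := by
    rw [P.mem_fixed, map_prod]
    have h : ∀ i, P.act a (P.act (a ^ i) v) = P.act (a ^ (i + 1)) v := fun i => by
      rw [← MulAut.mul_apply, ← map_mul, ← pow_succ']
    simp only [h]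
    obtain ⟨n, rfl⟩ : ∃ n, q = n + 1 := ⟨q - 1, by rcases hodd with ⟨k, hk⟩; omega⟩
    show ∏ i ∈ Finset.range (n + 1), P.act (a ^ (i + 1)) v =
      ∏ i ∈ Finset.range (n + 1), P.act (a ^ i) v
    rw [Finset.prod_range_succ, Finset.prod_range_succ' (fun i => P.act (a ^ i) v), hq, pow_zero]
  have h1 : P.b x N = 1 := by rw [P.swap N x, hx' N hN, inv_one]
  have h2 : P.b x N = P.b x v ^ q := by
    show P.bh x (∏ i ∈ Finset.range q, P.act (a ^ i) v) = _
    rw [map_prod]
    refine (Finset.prod_congr rfl (fun i _ => ?_)).trans (by rw [Finset.prod_const, Finset.card_range])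
    show P.b x (P.act (a ^ i) v) = P.b x v
    conv_lhs => rw [← hxi i, P.inv]
  have h3 : P.b x v ^ 2 = 1 := by rw [← P.pow_right, hexp, P.one_right]
  have := (pow_gcd_eq_one (a := P.b x v)).mpr ⟨h2.symm.trans h1, h3⟩
  rwa [hodd.coprime_two_right.gcd_eq_one, pow_one] at this

end Pairing

end Cfsg.Agent.CG26.Symp
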