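import Cfsg.Agent.CG26.Symp.Sect
import Cfsg.Agent.Lib.CharInd.Imprimitive
import Cfsg.Agent.S4197

/-!
# Solvable linear groups: classes of sections above the Fitting subgroup
-/

set_option autoImplicit false
set_option linter.style.haveILetI false

open scoped Classical

namespace Cfsg.Agent.CG26.Symp

open Cfsg.Agent.CharInd

/-- A jointly injective family of maps gives a product bound. -/
theorem kk_pi {ι : Type} (Q : ι → Type) [∀ i, Group (Q i)] (B : ι → ℕ)
    (hB : ∀ i (S : Subgroup (Q i)), kk S ≤ B i) :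
    ∀ (s : Finset ι) (H : Type) [Group H] [Finite H] (f : ∀ i, H →* Q i),
      (∀ h, (∀ i ∈ s, f i h = 1) → h = 1) → kk H ≤ ∏ i ∈ s, B i := by
  intro s
  induction s using Finset.induction_on with
  | empty =>
    intro H _ _ f h
    haveI : Subsingleton H := ⟨fun a b => (h a (by simp)).trans (h b (by simp)).symm⟩
    simpa using (kk_le_card H).trans (Finite.card_le_one_iff_subsingleton.mpr inferInstance)
  | @insert j s hj ih =>
    intro H _ _ f h
    rw [Finset.prod_insert hj, mul_comm]
    refine (kk_split (f j)).trans (Nat.mul_le_mul ?_ (hB j _))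
    refine ih (f j).ker (fun i => (f i).comp (f j).ker.subtype) fun x hx => Subtype.ext (h x ?_)
    intro i hi
    rcases Finset.mem_insert.mp hi with rfl | hi
    · exact x.2
    · exact hx i hi

/-- The statement in degree at most `r`. -/
def Good (r : ℕ) : Prop :=
  ∀ (G W : Type) [Group G] [Finite G] [Group.IsSolvable G] [AddCommGroup W] [Module ℂ W]
    [FiniteDimensional ℂ W] [Nontrivial W] (ρ : Representation ℂ G W),
    Function.Injective ρ → Module.finrank ℂ W = r →
      ∀ X : Subgroup (G ⧸ Cfsg.fittingSubgroup G), kk X ≤ 3 ^ (r - 1)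

variable {G W : Type} [Group G] [Finite G] [AddCommGroup W] [Module ℂ W] [FiniteDimensional ℂ W]

theorem iSup_eigSpace_eq_top (ρ : Representation ℂ G W) (A : Subgroup G)
    (hA : ∀ a ∈ A, ∀ b ∈ A, a * b = b * a) : ⨆ μ : A → ℂ, eigSpace ρ A μ = ⊤ := by
  have hss : ∀ a : A, Module.End.IsSemisimple (ρ (a : G)) := fun a => by
    have hsep : (Polynomial.X ^ orderOf (a : G) - 1 : Polynomial ℂ).Separable :=
      Polynomial.X_pow_sub_one_separable_iff.mpr (Nat.cast_ne_zero.mpr (orderOf_pos (a : G)).ne')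
    refine Module.End.isSemisimple_of_squarefree_aeval_eq_zero hsep.squarefree ?_
    rw [map_sub, map_pow, Polynomial.aeval_X, map_one, ← map_pow, pow_orderOf_eq_one, map_one, sub_self]
  have h := Module.End.iSup_iInf_maxGenEigenspace_eq_top_of_forall_mapsTo
    (fun a : A => ρ (a : G)) (fun a b φ => Module.End.mapsTo_maxGenEigenspace_of_comm
      (show ρ (b : G) * ρ (a : G) = ρ (a : G) * ρ (b : G) by
        rw [← map_mul, ← map_mul, hA _ b.2 _ a.2]) φ)
    (fun a => Module.End.iSup_maxGenEigenspace_eq_top _)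
  rw [← h]
  congr 1
  funext μ
  exact iInf_congr fun a =>
    ((Module.End.isFinitelySemisimple_iff_isSemisimple.mpr (hss a)).maxGenEigenspace_eq_eigenspace _).symm

theorem kk_le_of_nonscalar [Group.IsSolvable G] (ρ : Representation ℂ G W) (hρ : Function.Injective ρ)
    {r : ℕ} (hr : Module.finrank ℂ W = r) (ih : ∀ d < r, Good d)
    (A : Subgroup G) [A.Normal] (hA : ∀ a ∈ A, ∀ b ∈ A, a * b = b * a) {a₀ : G} (ha₀ : a₀ ∈ A)
    (hns : ¬ ∃ c : ℂ, ρ a₀ = c • (1 : Module.End ℂ W))
    (X : Subgroup (G ⧸ Cfsg.fittingSubgroup G)) : kk X ≤ 3 ^ (r - 1) := by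
  set F := Cfsg.fittingSubgroup G with hFdef
  have hind : iSupIndep (eigSpace ρ A) := by
    refine (Module.End.independent_iInf_maxGenEigenspace_of_forall_mapsTo
      (fun a : A => ρ (a : G)) (fun a b φ => Module.End.mapsTo_maxGenEigenspace_of_comm
        (show ρ (b : G) * ρ (a : G) = ρ (a : G) * ρ (b : G) by
          rw [← map_mul, ← map_mul, hA _ b.2 _ a.2]) φ)).mono fun μ => ?_
    exact iInf_mono fun a => Module.End.eigenspace_le_maxGenEigenspace
  have htop := iSup_eigSpace_eq_top ρ A hA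
  let Λ := {μ : A → ℂ // eigSpace ρ A μ ≠ ⊥}
  haveI : Finite Λ := (WellFoundedGT.finite_ne_bot_of_iSupIndep hind).to_subtype
  haveI : Fintype Λ := Fintype.ofFinite Λ
  let N : Λ → Submodule ℂ W := fun μ => eigSpace ρ A μ.1
  have hNtop : iSup N = ⊤ := (iSup_ne_bot_subtype (eigSpace ρ A)).trans htop
  have hint : DirectSum.IsInternal N := DirectSum.isInternal_submodule_of_iSupIndep_of_iSup_eq_top
    (hind.comp Subtype.val_injective) hNtop
  have hsum : ∑ μ : Λ, Module.finrank ℂ (N μ) = r := by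
    rw [← hr, Module.finrank_eq_card_basis
      (hint.collectedBasis fun μ => Module.Free.chooseBasis ℂ (N μ)), Fintype.card_sigma]
    exact Finset.sum_congr rfl fun μ _ => Module.finrank_eq_card_basis (Module.Free.chooseBasis ℂ (N μ))
  have hpos : ∀ μ : Λ, 1 ≤ Module.finrank ℂ (N μ) := fun μ => Submodule.one_le_finrank_iff.mpr μ.2
  have htwo : ∀ μ : Λ, ∃ ν : Λ, ν ≠ μ := by
    intro μ
    by_contra h
    push Not at h
    apply hns
    refine ⟨μ.1 ⟨a₀, ha₀⟩, LinearMap.ext fun v => ?_⟩
    have hv : v ∈ N μ := (iSup_le fun ν => by rw [h ν] : iSup N ≤ N μ) (hNtop ▸ Submodule.mem_top)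
    exact mem_eigSpace.mp hv ⟨a₀, ha₀⟩
  have hlt : ∀ μ : Λ, Module.finrank ℂ (N μ) < r := by
    intro μ
    obtain ⟨ν, hν⟩ := htwo μ
    have h : ∑ x ∈ ({μ, ν} : Finset Λ), Module.finrank ℂ (N x) ≤ r :=
      hsum ▸ Finset.sum_le_sum_of_subset (Finset.subset_univ _)
    rw [Finset.sum_pair hν.symm] at h
    have := hpos ν
    omega
  -- the action on the blocks
  have hnb : ∀ (g : G) (μ : Λ), eigSpace ρ A (conjFun A g μ.1) ≠ ⊥ := fun g μ h => by
    obtain ⟨v, hv, hv0⟩ := Submodule.exists_mem_ne_zero_of_ne_bot μ.2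
    have h1 := eigSpace_map ρ A g hv
    rw [h, Submodule.mem_bot] at h1
    apply hv0
    have := congrArg (ρ g⁻¹) h1
    rwa [← Module.End.mul_apply, ← map_mul, inv_mul_cancel, map_one, Module.End.one_apply, map_zero] at this
  letI : MulAction G Λ :=
    { smul := fun g μ => ⟨conjFun A g μ.1, hnb g μ⟩
      one_smul := fun μ => Subtype.ext (conjFun_one A μ.1)
      mul_smul := fun g h μ => Subtype.ext (conjFun_mul A g h μ.1) }
  let σ : G →* Equiv.Perm Λ := MulAction.toPermHom G Λ
  let K : Subgroup G := σ.ker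
  have hK : ∀ μ : Λ, ∀ t ∈ K, ∀ v ∈ N μ, ρ t v ∈ N μ := fun μ t ht v hv => by
    have h1 : (t • μ : Λ) = μ := Equiv.ext_iff.mp (MonoidHom.mem_ker.mp ht) μ
    have h2 := eigSpace_map ρ A t hv
    rwa [show conjFun A t μ.1 = μ.1 from congrArg Subtype.val h1] at h2
  let τ : ∀ μ : Λ, Representation ℂ K (N μ) := fun μ => restRep ρ K (N μ) (hK μ)
  let ω : ∀ μ : Λ, K →* (K ⧸ MonoidHom.ker (τ μ)) := fun μ => QuotientGroup.mk' _
  let Q : Λ → Type := fun μ => (K ⧸ MonoidHom.ker (τ μ)) ⧸ Cfsg.fittingSubgroup (K ⧸ MonoidHom.ker (τ μ))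
  let Ψ : ∀ μ : Λ, K →* Q μ := fun μ => (QuotientGroup.mk' _).comp (ω μ)
  have hQ : ∀ μ : Λ, ∀ S : Subgroup (Q μ), kk S ≤ 3 ^ (Module.finrank ℂ (N μ) - 1) := fun μ => by
    haveI : Nontrivial (N μ) := Submodule.nontrivial_iff_ne_bot.mpr μ.2
    haveI : Group.IsSolvable (K ⧸ MonoidHom.ker (τ μ)) :=
      Group.isSolvable_of_surjective (f := ω μ) (QuotientGroup.mk'_surjective _)
    exact ih _ (hlt μ) _ (N μ) (QuotientGroup.lift _ (τ μ) le_rfl)
      (fun a b h => by
        induction a using QuotientGroup.induction_on with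
        | _ a =>
          induction b using QuotientGroup.induction_on with
          | _ b =>
            have h' : τ μ a = τ μ b := h
            rw [QuotientGroup.eq, MonoidHom.mem_ker, map_mul, ← h', ← map_mul, inv_mul_cancel, map_one]) rfl
  -- the common kernel is the trace of the Fitting subgroup
  have hinj : ∀ k : K, (∀ μ, τ μ k = 1) → k = 1 := fun k hk => Subtype.ext (hρ (LinearMap.ext fun v => by
    rw [OneMemClass.coe_one, map_one]
    have hv : v ∈ iSup N := hNtop ▸ Submodule.mem_top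
    induction hv using Submodule.iSup_induction' with
    | mem μ x hx =>
      exact congrArg Subtype.val (LinearMap.congr_fun (hk μ) ⟨x, hx⟩)
    | zero => simp
    | add x y _ _ hx hy => rw [map_add, hx, hy, map_add]))
  let Φ : K →* (∀ μ : Λ, Q μ) := Pi.monoidHom Ψ
  have hΦker : Φ.ker = F.subgroupOf K := by
    apply le_antisymm
    · have hmem : ∀ k : K, k ∈ Φ.ker → ∀ μ, ω μ k ∈ Cfsg.fittingSubgroup (K ⧸ MonoidHom.ker (τ μ)) :=
        fun k hk μ => (QuotientGroup.eq_one_iff _).mp (congrFun (MonoidHom.mem_ker.mp hk) μ)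
      haveI : ∀ μ : Λ, Group.IsNilpotent (Cfsg.fittingSubgroup (K ⧸ MonoidHom.ker (τ μ))) :=
        fun μ => Fitting.fitting_isNilpotent
      let j : Φ.ker →* (∀ μ : Λ, Cfsg.fittingSubgroup (K ⧸ MonoidHom.ker (τ μ))) :=
        Pi.monoidHom fun μ => ((ω μ).comp Φ.ker.subtype).codRestrict _ fun k => hmem k k.2 μ
      have hjker : j.ker ≤ Subgroup.center Φ.ker := fun k hk => by
        have : k = 1 := Subtype.ext (hinj k.1 fun μ => MonoidHom.mem_ker.mp
          ((QuotientGroup.eq_one_iff _).mp (congrArg Subtype.val (congrFun (MonoidHom.mem_ker.mp hk) μ))))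
        rw [this]
        exact one_mem _
      haveI : Group.IsNilpotent Φ.ker := Subgroup.isNilpotent_of_ker_le_center j hjker
      have h1 : Φ.ker ≤ Cfsg.fittingSubgroup K := Fitting.le_fitting inferInstance inferInstance
      haveI hn : ((Cfsg.fittingSubgroup K).map K.subtype).Normal :=
        Fitting.normal_map_subtype_of_characteristic (Cfsg.fittingSubgroup K)
      have h2 : (Cfsg.fittingSubgroup K).map K.subtype ≤ F :=
        Fitting.le_fitting hn (Fitting.isNilpotent_map K.subtype Fitting.fitting_isNilpotent)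
      exact fun k hk => Subgroup.mem_subgroupOf.mpr (h2 (Subgroup.mem_map_of_mem K.subtype (h1 hk)))
    · intro k hk
      rw [MonoidHom.mem_ker]
      funext μ
      refine (QuotientGroup.eq_one_iff _).mpr ?_
      haveI : (F.subgroupOf K).Normal := inferInstance
      haveI : Group.IsNilpotent F := Fitting.fitting_isNilpotent
      have hnil : Group.IsNilpotent (F.subgroupOf K) :=
        Subgroup.isNilpotent_of_ker_le_center
          ((K.subtype.comp (F.subgroupOf K).subtype).codRestrict F fun x => x.2)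
          (fun x hx => by
            have hx1 : ((x : K) : G) = 1 := congrArg (fun y : F => (y : G)) (MonoidHom.mem_ker.mp hx)
            have : x = 1 := Subtype.ext (Subtype.ext hx1)
            rw [this]
            exact one_mem _)
      exact Fitting.le_fitting (Subgroup.Normal.map inferInstance (ω μ) (QuotientGroup.mk'_surjective _))
        (Fitting.isNilpotent_map (ω μ) hnil) (Subgroup.mem_map_of_mem (ω μ) hk)
  -- the two parts of `X`
  let π := QuotientGroup.mk' F
  let Nx : Subgroup X := (K.map π).subgroupOf X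
  haveI : (K.map π).Normal := Subgroup.Normal.map inferInstance π (QuotientGroup.mk'_surjective F)
  have htopX : kk (X ⧸ Nx) ≤ 2 ^ (Fintype.card Λ - 1) := by
    let H := X.comap π
    let σH : H →* Equiv.Perm Λ := σ.comp H.subtype
    let h : H →* X ⧸ Nx := (QuotientGroup.mk' Nx).comp (π.subgroupComap X)
    have hh : Function.Surjective h := (QuotientGroup.mk'_surjective Nx).comp
      (MonoidHom.subgroupComap_surjective_of_surjective π X (QuotientGroup.mk'_surjective F))
    have hle : σH.ker ≤ h.ker := fun g hg => by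
      rw [MonoidHom.mem_ker]
      exact (QuotientGroup.eq_one_iff _).mpr
        (Subgroup.mem_subgroupOf.mpr (Subgroup.mem_map_of_mem π (MonoidHom.mem_ker.mp hg : σ g = 1)))
    calc kk (X ⧸ Nx) ≤ kk (H ⧸ σH.ker) := Nat.card_le_card_of_surjective _
          (ConjClasses.map_surjective (f := QuotientGroup.lift σH.ker h hle)
            (QuotientGroup.lift_surjective_of_surjective _ _ hh _))
      _ = kk σH.range := kk_congr (QuotientGroup.quotientKerEquivRange σH)
      _ ≤ _ := Cfsg.Agent.S4197.result σH.range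
  have hbot : kk Nx ≤ ∏ μ : Λ, 3 ^ (Module.finrank ℂ (N μ) - 1) := by
    let J : Subgroup K := (X.comap π).subgroupOf K
    let α : J →* Nx :=
      { toFun := fun k => ⟨⟨π ((k : K) : G), k.2⟩, Subgroup.mem_map_of_mem π (k : K).2⟩
        map_one' := Subtype.ext (Subtype.ext (map_one π))
        map_mul' := fun a b => Subtype.ext (Subtype.ext (map_mul π _ _)) }
    have hα : Function.Surjective α := by
      rintro ⟨⟨x, hx⟩, hxK⟩
      obtain ⟨k, hk, hkx⟩ := hxK
      exact ⟨⟨⟨k, hk⟩, show π k ∈ X by rw [show π k = x from hkx]; exact hx⟩, Subtype.ext (Subtype.ext hkx)⟩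
    let β : J →* (∀ μ : Λ, Q μ) := Φ.comp J.subtype
    have hker : α.ker = β.ker := by
      ext k
      have e1 : k ∈ α.ker ↔ π ((k : K) : G) = 1 := by
        rw [MonoidHom.mem_ker, Subtype.ext_iff, Subtype.ext_iff]; rfl
      have e2 : k ∈ β.ker ↔ (k : K) ∈ Φ.ker := Iff.rfl
      rw [e1, e2, hΦker, Subgroup.mem_subgroupOf]
      exact QuotientGroup.eq_one_iff _
    have e : Nx ≃* β.range :=
      ((QuotientGroup.quotientKerEquivOfSurjective α hα).symm.trans
        (QuotientGroup.quotientMulEquivOfEq hker)).trans (QuotientGroup.quotientKerEquivRange β)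
    rw [kk_congr e]
    exact kk_pi Q _ hQ Finset.univ _ (fun μ => (Pi.evalMonoidHom Q μ).comp β.range.subtype)
      fun x hx => Subtype.ext (funext fun μ => hx μ (Finset.mem_univ μ))
  calc kk X ≤ kk Nx * kk (X ⧸ Nx) := Cfsg.Agent.S4201.result Nx
    _ ≤ (∏ μ : Λ, 3 ^ (Module.finrank ℂ (N μ) - 1)) * 2 ^ (Fintype.card Λ - 1) :=
      Nat.mul_le_mul hbot htopX
    _ ≤ 3 ^ (∑ μ : Λ, (Module.finrank ℂ (N μ) - 1)) * 3 ^ (Fintype.card Λ - 1) := by
      rw [Finset.prod_pow_eq_pow_sum]
      exact Nat.mul_le_mul_left _ (Nat.pow_le_pow_left (by norm_num) _)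
    _ ≤ 3 ^ (r - 1) := by
      rw [← pow_add]
      refine Nat.pow_le_pow_right (by norm_num) ?_
      have h1 : ∑ μ : Λ, (Module.finrank ℂ (N μ) - 1) + Fintype.card Λ = r := by
        rw [← hsum, ← Finset.card_univ, Finset.card_eq_sum_ones, ← Finset.sum_add_distrib]
        exact Finset.sum_congr rfl fun μ _ => Nat.sub_add_cancel (hpos μ)
      rcases Nat.eq_zero_or_pos (Fintype.card Λ) with h0 | h0
      · rw [h0] at h1 ⊢
        haveI := Fintype.card_eq_zero_iff.mp h0
        simp
      · omega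

theorem good_all : ∀ r, Good r := by
  intro r
  induction r using Nat.strong_induction_on with
  | _ r ih =>
  intro G W _ _ _ _ _ _ _ ρ hρ hr X
  by_cases hscal : ∀ A : Subgroup G, A.Normal → (∀ a ∈ A, ∀ b ∈ A, a * b = b * a) →
      ∀ a ∈ A, ∃ c : ℂ, ρ a = c • (1 : Module.End ℂ W)
  · exact hr ▸ kk_le_of_scalar ρ hρ hscal X
  · push Not at hscal
    obtain ⟨A, hAn, hA, a₀, ha₀, hns⟩ := hscal
    exact kk_le_of_nonscalar ρ hρ hr ih A hA ha₀ (not_exists.mpr hns) X

end Cfsg.Agent.CG26.Symp
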