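import Cfsg.Agent.CG26.Symp.Dispatch
import Cfsg.Agent.K94.SecCR
import Cfsg.Agent.Lib.Fitting

/-!
# Solvable linear groups in which every abelian normal subgroup is scalar
-/

set_option autoImplicit false
set_option linter.style.haveILetI false

open scoped Classical commutatorElement

namespace Cfsg.Agent.CG26.Symp

open Cfsg.Agent.BC85.BaseTwo (IsSec exists_sec)
open Cfsg.Agent.K94

variable {G W : Type} [Group G] [Finite G] [AddCommGroup W] [Module ℂ W]

/-- A finite group of units of a field embeds in the units of a finite prime field. -/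
theorem exists_prime_embedding (U : Type) [CommGroup U] [Finite U] (c : U →* ℂˣ)
    (hc : Function.Injective c) :
    ∃ (p : ℕ) (_ : Fact p.Prime) (ι : U →* (ZMod p)ˣ), Function.Injective ι := by
  haveI : IsCyclic U := isCyclic_of_injective_ringHom ((Units.coeHom ℂ).comp c) (Units.val_injective.comp hc)
  obtain ⟨p, hp, -, hmod⟩ := Nat.exists_prime_gt_modEq_one (k := Nat.card U) 1 Nat.card_pos.ne'
  haveI := Fact.mk hp
  obtain ⟨g, hg⟩ := IsCyclic.exists_generator (α := (ZMod p)ˣ)
  have hord : orderOf g = p - 1 := by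
    rw [orderOf_eq_card_of_forall_mem_zpowers hg, Nat.card_eq_fintype_card, ZMod.card_units]
  have hd : Nat.card U ∣ p - 1 := (Nat.modEq_iff_dvd' hp.one_le).mp hmod.symm
  obtain ⟨m, hm⟩ := hd
  have hp1 : 0 < p - 1 := by have := hp.two_le; omega
  have hgm : orderOf (g ^ m) = Nat.card U := by
    have hm0 : 0 < m := by
      rcases Nat.eq_zero_or_pos m with rfl | h
      · rw [mul_zero] at hm; omega
      · exact h
    rw [orderOf_pow' _ hm0.ne', hord, hm, Nat.gcd_eq_right (dvd_mul_left m _), Nat.mul_div_cancel _ hm0]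
  have hcard : Nat.card (Subgroup.zpowers (g ^ m)) = Nat.card U := by rw [Nat.card_zpowers, hgm]
  exact ⟨p, inferInstance, (Subgroup.zpowers (g ^ m)).subtype.comp
    (mulEquivOfCyclicCardEq hcard.symm).toMonoidHom,
    Subtype.val_injective.comp (mulEquivOfCyclicCardEq hcard.symm).injective⟩

/-- The section is bounded by the square of the degree. -/
theorem sec_card_le [FiniteDimensional ℂ W] [Nontrivial W] (ρ : Representation ℂ G W)
    {U N : Subgroup G} [U.Normal] (hN : IsSec U N) (c : U →* ℂˣ) (hc : Function.Injective c)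
    (hcρ : ∀ (u : U), ρ (u : G) = (c u : ℂ) • (1 : Module.End ℂ W)) :
    U.relIndex N ≤ Module.finrank ℂ W ^ 2 := by
  letI := secCommGroup hN
  let E := N.map (QuotientGroup.mk' U)
  haveI : Fintype E := Fintype.ofFinite _
  let χ : E → (N →* ℂ) := fun x =>
    { toFun := fun y => (c ⟨⁅(y : G), (x : G ⧸ U).out⁆, hN.comm y y.2 _ (out_mem hN x)⟩ : ℂ)
      map_one' := by
        rw [show (⟨⁅((1 : N) : G), (x : G ⧸ U).out⁆, hN.comm _ (1 : N).2 _ (out_mem hN x)⟩ : U) = 1 from
          Subtype.ext (commutatorElement_one_left _), map_one, Units.val_one]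
      map_mul' := fun a b => by
        rw [← Units.val_mul, ← map_mul]
        congr 2
        apply Subtype.ext
        show ⁅(a : G) * (b : G), (x : G ⧸ U).out⁆ = ⁅(a : G), (x : G ⧸ U).out⁆ * ⁅(b : G), (x : G ⧸ U).out⁆
        have hb := hN.comm b b.2 _ (out_mem hN x)
        have ha := hN.comm a a.2 _ (out_mem hN x)
        have e : ⁅(a : G) * (b : G), (x : G ⧸ U).out⁆ =
            (a : G) * ⁅(b : G), (x : G ⧸ U).out⁆ * (a : G)⁻¹ * ⁅(a : G), (x : G ⧸ U).out⁆ := by
          simp only [commutatorElement_def]; group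
        rw [e, ← Subgroup.mem_centralizer_iff.mp (hN.cen a.2) _ hb, mul_inv_cancel_right]
        exact congrArg Subtype.val
          (hc (by rw [map_mul, map_mul, mul_comm]) : (⟨_, hb⟩ : U) * ⟨_, ha⟩ = ⟨_, ha⟩ * ⟨_, hb⟩) }
  have hχ : Function.Injective χ := by
    intro x x' h
    by_contra hne
    obtain ⟨y, hy⟩ := omega_nondeg hN (x := x⁻¹ * x') (fun e => hne (inv_mul_eq_one.mp e))
    apply hy
    have h1 := DFunLike.congr_fun h ⟨_, out_mem hN y⟩
    have h2 : omega U N y x = omega U N y x' := congrArg Subtype.val (hc (Units.ext h1))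
    have h3 := omega_mul_right hN y x (x⁻¹ * x')
    rw [mul_inv_cancel_left, ← h2] at h3
    rw [omega_swap, mul_eq_left.mp h3.symm, inv_one]
  have hconj : ∀ (y : N) (x : E), ρ (y : G) * ρ (x : G ⧸ U).out * ρ (y : G)⁻¹ =
      χ x y • ρ (x : G ⧸ U).out := by
    intro y x
    rw [← map_mul, ← map_mul, show (y : G) * (x : G ⧸ U).out * (y : G)⁻¹ =
      ⁅(y : G), (x : G ⧸ U).out⁆ * (x : G ⧸ U).out by simp only [commutatorElement_def]; group, map_mul,
      hcρ ⟨⁅(y : G), (x : G ⧸ U).out⁆, hN.comm y y.2 _ (out_mem hN x)⟩, smul_mul_assoc, one_mul]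
    rfl
  have hLI : LinearIndependent ℂ fun x : E => ρ (x : G ⧸ U).out := by
    rw [Fintype.linearIndependent_iff]
    intro t ht x0
    have hne : ρ (x0 : G ⧸ U).out ≠ 0 := by
      intro h0
      have h1 : ρ ((x0 : G ⧸ U).out⁻¹ * (x0 : G ⧸ U).out) = 0 := by rw [map_mul, h0, mul_zero]
      rw [inv_mul_cancel, map_one] at h1
      exact one_ne_zero h1
    refine (smul_eq_zero.mp ((Module.forall_dual_apply_eq_zero_iff ℂ _).mp fun φ => ?_)).resolve_right hne
    have hind : LinearIndependent ℂ fun x => (χ x : N → ℂ) := (linearIndependent_monoidHom N ℂ).comp χ hχ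
    refine (Fintype.linearIndependent_iff.mp hind) (fun x => φ (t x • ρ (x : G ⧸ U).out)) ?_ x0
    funext y
    have h5 : φ (ρ (y : G) * (∑ x, t x • ρ (x : G ⧸ U).out) * ρ (y : G)⁻¹) = 0 := by
      rw [ht, mul_zero, zero_mul, map_zero]
    simp only [Finset.mul_sum, Finset.sum_mul, mul_smul_comm, smul_mul_assoc, hconj, map_sum, map_smul] at h5
    simp only [Finset.sum_apply, Pi.smul_apply, smul_eq_mul, Pi.zero_apply, map_smul]
    refine Eq.trans (Finset.sum_congr rfl fun x _ => ?_) h5
    rw [smul_eq_mul, smul_eq_mul]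
    ring
  have h := hLI.fintype_card_le_finrank
  rw [Module.finrank_linearMap, ← Nat.card_eq_fintype_card, card_section, ← pow_two] at h
  exact h

/-- The primitive case. -/
theorem kk_le_of_scalar [Group.IsSolvable G] [FiniteDimensional ℂ W] [Nontrivial W]
    (ρ : Representation ℂ G W) (hρ : Function.Injective ρ)
    (hscal : ∀ A : Subgroup G, A.Normal → (∀ a ∈ A, ∀ b ∈ A, a * b = b * a) →
      ∀ a ∈ A, ∃ c : ℂ, ρ a = c • (1 : Module.End ℂ W))
    (X : Subgroup (G ⧸ Cfsg.fittingSubgroup G)) :
    kk X ≤ 3 ^ (Module.finrank ℂ W - 1) := by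
  let U : Subgroup G :=
    { carrier := {g | ∃ c : ℂ, ρ g = c • (1 : Module.End ℂ W)}
      one_mem' := ⟨1, by rw [map_one, one_smul]⟩
      mul_mem' := by
        rintro a b ⟨s, hs⟩ ⟨t, ht⟩
        exact ⟨s * t, by rw [map_mul, hs, ht, smul_mul_smul_comm, one_mul]⟩
      inv_mem' := by
        rintro a ⟨s, hs⟩
        refine ⟨s⁻¹, ?_⟩
        have h1 : ρ a * ρ a⁻¹ = 1 := by rw [← map_mul, mul_inv_cancel, map_one]
        have hs0 : s ≠ 0 := by
          rintro rfl
          rw [hs, zero_smul, zero_mul] at h1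
          exact zero_ne_one h1
        rw [hs, smul_mul_assoc, one_mul] at h1
        rw [← h1, inv_smul_smul₀ hs0] }
  have hcomm : ∀ u ∈ U, ∀ g, g * u = u * g := by
    rintro u ⟨s, hs⟩ g
    apply hρ
    rw [map_mul, map_mul, hs, smul_mul_assoc, mul_smul_comm, one_mul, mul_one]
  haveI : U.Normal := ⟨fun u hu g => by rwa [hcomm u hu g, mul_inv_cancel_right]⟩
  have hex : ∀ u : U, ∃ s : ℂ, ρ (u : G) = s • (1 : Module.End ℂ W) := fun u => u.2
  choose s hs using hex
  have hinjs : ∀ a b : ℂ, a • (1 : Module.End ℂ W) = b • (1 : Module.End ℂ W) → a = b := fun a b h => by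
    by_contra hne
    have : (a - b) • (1 : Module.End ℂ W) = 0 := by rw [sub_smul, h, sub_self]
    exact one_ne_zero ((smul_eq_zero.mp this).resolve_left (sub_ne_zero.mpr hne))
  let s' : U →* ℂ :=
    { toFun := s
      map_one' := hinjs _ _ (by rw [← hs, OneMemClass.coe_one, map_one, one_smul])
      map_mul' := fun a b => hinjs _ _ (by
        rw [← hs, Subgroup.coe_mul, map_mul, hs, hs, smul_mul_smul_comm, one_mul]) }
  let c : U →* ℂˣ := s'.toHomUnits
  have hc : Function.Injective c := fun a b h => Subtype.ext (hρ (by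
    rw [hs, hs, show s a = s b from congrArg Units.val h]))
  by_cases hUtop : U = ⊤
  · have hF : Cfsg.fittingSubgroup G = ⊤ := by
      rw [Fitting.fitting_eq_top_iff]
      letI : CommGroup G := { (inferInstance : Group G) with
        mul_comm := fun a b => hcomm b (hUtop ▸ Subgroup.mem_top b) a }
      infer_instance
    haveI : Subsingleton (G ⧸ Cfsg.fittingSubgroup G) := by
      rw [hF]; exact QuotientGroup.subsingleton_quotient_top
    exact (kk_le_card _).trans ((Finite.card_le_one_iff_subsingleton.mpr inferInstance).trans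
      (Nat.one_le_pow _ _ (by norm_num)))
  have hC : Subgroup.centralizer (U : Set G) = ⊤ :=
    eq_top_iff.mpr fun g _ => Subgroup.mem_centralizer_iff.mpr fun u hu => (hcomm u hu g).symm
  letI : CommGroup U := { (inferInstance : Group U) with
    mul_comm := fun a b => Subtype.ext (hcomm b b.2 a) }
  obtain ⟨p, hp, ι, hι⟩ := exists_prime_embedding U c hc
  haveI := hp
  have hmax : ∀ A : Subgroup G, A.Normal → U ≤ A → (∀ a ∈ A, ∀ b ∈ A, a * b = b * a) → A = U :=
    fun A hA hUA hab => le_antisymm (fun a ha => hscal A hA hab a ha) hUA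
  obtain ⟨N, hN⟩ := exists_sec U (K := ZMod p) (fun a _ b hb => hcomm b hb a) hmax ι hι
    (by rw [hC]; exact Ne.symm hUtop)
  haveI := hN.normal
  -- the section is nilpotent
  have hNF : N ≤ Cfsg.fittingSubgroup G := by
    refine Fitting.le_fitting inferInstance ?_
    letI := secCommGroup hN
    haveI : Group.IsNilpotent (N.map (QuotientGroup.mk' U)) := inferInstance
    let f : N →* N.map (QuotientGroup.mk' U) := (QuotientGroup.mk' U).subgroupMap N
    refine Subgroup.isNilpotent_of_ker_le_center f (fun n hn => ?_)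
    have hnU : (n : G) ∈ U := (QuotientGroup.eq_one_iff _).mp (congrArg Subtype.val (MonoidHom.mem_ker.mp hn))
    exact Subgroup.mem_center_iff.mpr fun m => Subtype.ext (hcomm _ hnU m)
  letI := secCommGroup hN
  let E := N.map (QuotientGroup.mk' U)
  have hidT : ∀ g : G, g ∈ Subgroup.centralizer (U : Set G) := fun g => hC ▸ Subgroup.mem_top g
  let act₀ : G →* MulAut E :=
    { toFun := fun g =>
        { toFun := secMap hN g
          invFun := secMap hN g⁻¹
          left_inv := fun x => by rw [← secMap_mul, inv_mul_cancel, secMap_one]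
          right_inv := fun x => by rw [← secMap_mul, mul_inv_cancel, secMap_one]
          map_mul' := map_mul (secMap hN g) }
      map_one' := MulEquiv.ext fun x => secMap_one hN x
      map_mul' := fun g h => MulEquiv.ext fun x => secMap_mul hN g h x }
  have hker : act₀.ker = N := by
    ext g
    rw [MonoidHom.mem_ker]
    constructor
    · intro h
      exact mem_of_secMap_id hN (hidT g) fun x => DFunLike.congr_fun h x
    · intro h
      refine MulEquiv.ext fun x => Subtype.ext ?_
      show (secMap hN g x : G ⧸ U) = x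
      rw [secMap_coe, mul_inv_eq_iff_eq_mul, ← mk_out x, ← commutatorElement_eq_one_iff_mul_comm,
        ← map_commutatorElement]
      exact (QuotientGroup.eq_one_iff _).mpr (hN.comm _ h _ (out_mem hN _))
  let P : Pairing (G ⧸ N) E :=
    { act := QuotientGroup.lift N act₀ hker.ge
      inj := by
        rw [injective_iff_map_eq_one]
        intro q hq
        induction q using QuotientGroup.induction_on with
        | _ g =>
          rw [QuotientGroup.eq_one_iff, ← hker, MonoidHom.mem_ker]
          exact hq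
      b := fun x y => c ⟨omega U N x y, omega_mem hN x y⟩
      mul_right := fun x y z => by
        rw [← map_mul]
        exact congrArg c (Subtype.ext (omega_mul_right hN x y z))
      swap := fun x y => by
        rw [← map_inv]
        exact congrArg c (Subtype.ext (omega_swap x y))
      self := fun x => by
        rw [← map_one c]
        exact congrArg c (Subtype.ext (commutatorElement_self _))
      nondeg := fun x hx => by
        obtain ⟨y, hy⟩ := omega_nondeg hN hx
        exact ⟨y, fun h => hy (congrArg Subtype.val (hc (h.trans (map_one c).symm)))⟩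
      inv := fun q x y => by
        induction q using QuotientGroup.induction_on with
        | _ g => exact congrArg c (Subtype.ext (omega_secMap hN (hidT g) x y)) }
  obtain ⟨e, he⟩ := hN.square
  have hcard : Nat.card E = e ^ 2 := card_section.trans he
  have hcρ : ∀ u : U, ρ (u : G) = (c u : ℂ) • (1 : Module.End ℂ W) := hs
  have her : e ≤ Module.finrank ℂ W :=
    (Nat.pow_le_pow_iff_left two_ne_zero).mp (he ▸ sec_card_le ρ hN c hc hcρ)
  have hcrude : 1 < e → Nat.card (G ⧸ N) * 2 ≤ e ^ 6 := fun _ => by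
    have h := relIndex_le_cube_half hN
    rw [hC, Subgroup.relIndex_top_right, Subgroup.index_eq_card, he, ← pow_mul] at h
    exact h
  have hTI : ∀ S : Subgroup E, P.Invar S → (∀ u ∈ S, ∀ v ∈ S, P.b u v = 1) → S = ⊥ := by
    intro S hS hiso
    let A : Subgroup G := (S.map E.subtype).comap (QuotientGroup.mk' U)
    have hmem : ∀ a : G, a ∈ A ↔ ∃ x ∈ S, (x : G ⧸ U) = QuotientGroup.mk' U a := fun a =>
      Subgroup.mem_map
    haveI : A.Normal := ⟨fun a ha g => by
      obtain ⟨x, hx, e⟩ := (hmem a).mp ha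
      refine (hmem _).mpr ⟨P.act (QuotientGroup.mk' N g) x, hS _ x hx, ?_⟩
      show (secMap hN g x : G ⧸ U) = _
      rw [secMap_coe, e, map_mul, map_mul, map_inv]⟩
    have hAN : ∀ a ∈ A, a ∈ N := fun a ha => by
      obtain ⟨x, -, e⟩ := (hmem a).mp ha
      obtain ⟨n, hn, hnx⟩ := Subgroup.mem_map.mp x.2
      have h1 : n⁻¹ * a ∈ U := QuotientGroup.eq.mp (hnx.trans e)
      have h2 := mul_mem hn (hN.le h1)
      rwa [mul_inv_cancel_left] at h2
    have hab : ∀ a ∈ A, ∀ b ∈ A, a * b = b * a := by
      intro a ha b hb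
      obtain ⟨x, hx, ex⟩ := (hmem a).mp ha
      obtain ⟨y, hy, ey⟩ := (hmem b).mp hb
      rw [← commutatorElement_eq_one_iff_mul_comm, ← omega_mk hN (hAN a ha) (hAN b hb) x y ex ey]
      exact congrArg Subtype.val (hc ((hiso x hx y hy).trans (map_one c).symm))
    have hUA : U ≤ A := fun u hu => (hmem u).mpr ⟨1, one_mem S, ((QuotientGroup.eq_one_iff u).mpr hu).symm⟩
    have hAU := hmax A inferInstance hUA hab
    rw [Subgroup.eq_bot_iff_forall]
    intro x hx
    obtain ⟨n, -, hnx⟩ := Subgroup.mem_map.mp x.2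
    have hnA : n ∈ A := (hmem n).mpr ⟨x, hx, hnx.symm⟩
    rw [hAU] at hnA
    exact Subtype.ext (hnx.symm.trans ((QuotientGroup.eq_one_iff n).mpr hnA))
  haveI : Group.IsSolvable (G ⧸ N) :=
    Group.isSolvable_of_surjective (f := QuotientGroup.mk' N) (QuotientGroup.mk'_surjective N)
  let π : G ⧸ N →* G ⧸ Cfsg.fittingSubgroup G :=
    QuotientGroup.map N (Cfsg.fittingSubgroup G) (MonoidHom.id G) hNF
  have hπ : Function.Surjective π := fun q => by
    induction q using QuotientGroup.induction_on with
    | _ g => exact ⟨g, rfl⟩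
  have hsurj : Function.Surjective (π.subgroupComap X) :=
    MonoidHom.subgroupComap_surjective_of_surjective π X hπ
  calc kk X ≤ kk (X.comap π) := Nat.card_le_card_of_surjective _ (ConjClasses.map_surjective hsurj)
    _ ≤ 3 ^ (e - 1) := P.kk_bound hcard hcrude hTI (X.comap π)
    _ ≤ _ := Nat.pow_le_pow_right (by norm_num) (by omega)

end Cfsg.Agent.CG26.Symp
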