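import Cfsg.Agent.CG26.Symp.Small
import Cfsg.Agent.K94.Sp4
import Cfsg.Agent.Lib.LinearGroup.Sp42

/-!
# Sixteen points: the symmetric group of degree six
-/

set_option autoImplicit false

open scoped Classical

namespace Cfsg.Agent.CG26.Symp

theorem exists_six {X V : Type} [Group X] [Finite X] [CommGroup V] [Finite V] (P : Pairing X V)
    (hV : Nat.card V = 16) (hexp : ∀ v : V, v ^ 2 = 1) :
    ∃ f : X →* Equiv.Perm (Fin 6), Function.Injective f := by
  have huniq : ∀ x y x' y', P.b x y ≠ 1 → P.b x' y' ≠ 1 → P.b x y = P.b x' y' := by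
    intro x y x' y' h h'
    have key : ∀ a c, P.b a c ≠ 1 → (P.b a c : ℂ) = -1 := by
      intro a c hac
      have h2 : (P.b a c : ℂ) * P.b a c = 1 := by
        rw [← Units.val_mul, ← P.mul_right, ← pow_two, hexp, P.one_right, Units.val_one]
      rcases mul_self_eq_one_iff.mp h2 with h3 | h3
      · exact absurd (Units.ext h3) hac
      · exact h3
    exact Units.ext ((key x y h).trans (key x' y' h').symm)
  let β : V → V → ZMod 2 := fun x y => if P.b x y = 1 then 0 else 1
  have hβr : ∀ x y y', β x (y * y') = β x y + β x y' := by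
    intro x y y'
    simp only [β]
    rw [P.mul_right]
    by_cases h : P.b x y = 1
    · simp [h]
    by_cases h' : P.b x y' = 1
    · simp [h, h']
    · rw [← huniq x y x y' h h']
      rw [if_pos (by rw [← P.mul_right, ← pow_two, hexp, P.one_right]), if_neg h]
      decide
  have hβs : ∀ x y, β y x = β x y := by
    intro x y
    simp only [β, P.swap x y, inv_eq_one]
  have hβ1 : ∀ x, β x 1 = 0 := fun x => by simp [β, P.one_right]
  have hβxx : ∀ x, β x x = 0 := fun x => by simp [β, P.self]
  haveI : Nontrivial V := Finite.one_lt_card_iff_nontrivial.mp (by rw [hV]; norm_num)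
  obtain ⟨a, ha⟩ := exists_ne (1 : V)
  obtain ⟨b, hb⟩ := P.nondeg a ha
  have hab : β a b = 1 := by simp [β, hb]
  let φ : V →* Multiplicative (ZMod 2 × ZMod 2) :=
    MonoidHom.mk' (fun y => Multiplicative.ofAdd (β a y, β b y)) fun y y' => by
      show Multiplicative.ofAdd _ = Multiplicative.ofAdd ((β a y, β b y) + (β a y', β b y'))
      rw [Prod.mk_add_mk, hβr, hβr]
  have hker : 4 ≤ Nat.card φ.ker := by
    have h1 := φ.ker.card_mul_index
    have h2 : φ.ker.index ≤ 4 := by
      rw [Subgroup.index_ker]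
      exact (Subgroup.card_le_card_group _).trans (le_of_eq (by simp))
    rw [hV] at h1
    nlinarith
  haveI : Nontrivial φ.ker := Finite.one_lt_card_iff_nontrivial.mp (by omega)
  obtain ⟨⟨c, hc⟩, hc0⟩ := exists_ne (1 : φ.ker)
  have hc1 : c ≠ 1 := fun h => hc0 (Subtype.ext h)
  have hc' : (β a c, β b c) = ((0 : ZMod 2), (0 : ZMod 2)) :=
    Multiplicative.ofAdd.injective (MonoidHom.mem_ker.mp hc)
  have hac : β a c = 0 := congrArg Prod.fst hc'
  have hbc : β b c = 0 := congrArg Prod.snd hc'
  obtain ⟨d₀, hd₀⟩ := P.nondeg c hc1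
  have hcd₀ : β c d₀ = 1 := by simp [β, hd₀]
  let d : V := d₀ * (if β a d₀ = 0 then 1 else b) * (if β b d₀ = 0 then 1 else a)
  have h01 : ∀ z : ZMod 2, z = 0 ∨ z = 1 := by decide
  have had : β a d = 0 := by
    simp only [d, hβr]
    rcases h01 (β a d₀) with h | h <;> rcases h01 (β b d₀) with h' | h' <;>
      simp [h, h', hβ1, hab, hβxx] <;> decide
  have hbd : β b d = 0 := by
    have hba : β b a = 1 := (hβs a b).trans hab
    simp only [d, hβr]
    rcases h01 (β a d₀) with h | h <;> rcases h01 (β b d₀) with h' | h' <;>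
      simp [h, h', hβ1, hba, hβxx] <;> decide
  have hcd : β c d = 1 := by
    have hca : β c a = 0 := (hβs a c).trans hac
    have hcb : β c b = 0 := (hβs b c).trans hbc
    simp only [d, hβr]
    rcases h01 (β a d₀) with h | h <;> rcases h01 (β b d₀) with h' | h' <;>
      simp [h, h', hβ1, hcd₀, hca, hcb]
  let e : Fin 2 ⊕ Fin 2 → V := Sum.elim ![a, c] ![b, d]
  let e' : Fin 2 ⊕ Fin 2 → V := Sum.elim ![b, d] ![a, c]
  let ψ : Additive V →+ (Fin 2 ⊕ Fin 2 → ZMod 2) :=
    AddMonoidHom.mk' (fun x i => β (e' i) x.toMul) fun x y => funext fun i => hβr _ _ _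
  have hba : β b a = 1 := (hβs a b).trans hab
  have hdc : β d c = 1 := (hβs c d).trans hcd
  have hca : β c a = 0 := (hβs a c).trans hac
  have hcb : β c b = 0 := (hβs b c).trans hbc
  have hda : β d a = 0 := (hβs a d).trans had
  have hdb : β d b = 0 := (hβs b d).trans hbd
  have hψe : ∀ i, ψ (Additive.ofMul (e i)) = Pi.single i 1 := by
    intro i
    funext j
    show β (e' j) (e i) = _
    rcases i with i | i <;> rcases j with j | j <;> fin_cases i <;> fin_cases j <;>
      simp [e, e', hab, hba, hcd, hdc, hac, hca, hbc, hcb, had, hda, hbd, hdb, hβxx, Pi.single_apply]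
  have hψs : Function.Surjective ψ := by
    intro f
    refine ⟨∑ i, (f i).val • Additive.ofMul (e i), ?_⟩
    rw [map_sum]
    funext j
    rw [Finset.sum_apply, Finset.sum_eq_single j]
    · rw [map_nsmul, Pi.smul_apply, hψe, Pi.single_eq_same, nsmul_one, ZMod.natCast_zmod_val]
    · intro i _ hij
      rw [map_nsmul, Pi.smul_apply, hψe, Pi.single_eq_of_ne' hij, smul_zero]
    · exact fun h => absurd (Finset.mem_univ j) h
  have hψb : Function.Bijective ψ := by
    haveI : Fintype V := Fintype.ofFinite _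
    refine (Fintype.bijective_iff_surjective_and_card ψ).mpr ⟨hψs, ?_⟩
    rw [← Nat.card_eq_fintype_card, ← Nat.card_eq_fintype_card, Nat.card_congr Additive.toMul, hV]
    simp
  let ψe : Additive V ≃+ (Fin 2 ⊕ Fin 2 → ZMod 2) := AddEquiv.ofBijective ψ hψb
  let F : X → ((Fin 2 ⊕ Fin 2 → ZMod 2) →ₗ[ZMod 2] (Fin 2 ⊕ Fin 2 → ZMod 2)) := fun g =>
    (ψe.toAddMonoidHom.comp ((MonoidHom.toAdditive (P.act g).toMonoidHom).comp
      ψe.symm.toAddMonoidHom)).toZModLinearMap 2
  have hF : ∀ g x, F g (ψ x) = ψ (Additive.ofMul (P.act g x.toMul)) := by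
    intro g x
    show ψ (Additive.ofMul (P.act g (ψe.symm (ψe x)).toMul)) = _
    rw [AddEquiv.symm_apply_apply]
  have hpair : ∀ x y : V, β x y =
      ∑ i, ∑ j, ψ (Additive.ofMul x) i * (Matrix.J (Fin 2) (ZMod 2) i j) * ψ (Additive.ofMul y) j := by
    intro x y
    obtain ⟨f, rfl⟩ : ∃ f, (ψe.symm f).toMul = x := ⟨ψe (Additive.ofMul x), by simp⟩
    have hx : ψ (Additive.ofMul (ψe.symm f).toMul) = f := ψe.apply_symm_apply f
    rw [hx]
    have hexpand : ψe.symm f = ∑ i, (f i).val • Additive.ofMul (e i) := by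
      apply ψe.injective
      rw [AddEquiv.apply_symm_apply]
      show f = ψ _
      rw [map_sum]
      funext j
      rw [Finset.sum_apply, Finset.sum_eq_single j]
      · rw [map_nsmul, Pi.smul_apply, hψe, Pi.single_eq_same, nsmul_one, ZMod.natCast_zmod_val]
      · intro i _ hij
        rw [map_nsmul, Pi.smul_apply, hψe, Pi.single_eq_of_ne' hij, smul_zero]
      · exact fun h => absurd (Finset.mem_univ j) h
    let L : Additive V →+ ZMod 2 :=
      AddMonoidHom.mk' (fun z => β y z.toMul) fun u v => hβr y _ _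
    have hl : β (ψe.symm f).toMul y = ∑ i, f i * β (e i) y := by
      rw [hβs y]
      show L (ψe.symm f) = _
      rw [hexpand, map_sum]
      refine Finset.sum_congr rfl fun i _ => ?_
      rw [map_nsmul, nsmul_eq_mul, ZMod.natCast_val, ZMod.cast_id]
      exact congrArg (f i * ·) (hβs (e i) y)
    rw [hl, show ψ (Additive.ofMul y) = fun i => β (e' i) y from rfl]
    have hJ := Cfsg.Agent.K94.J_entry
    have hswap : ∀ i, e' (Sum.swap i) = e i := fun i => by rcases i with i | i <;> rfl
    refine Finset.sum_congr rfl fun i _ => ?_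
    rw [Finset.sum_eq_single (Sum.swap i)]
    · rw [hJ, if_pos rfl, mul_one]
      exact congrArg (fun z => f i * β z y) (hswap i).symm
    · intro j _ hji
      rw [hJ, if_neg hji, mul_zero, zero_mul]
    · exact fun h => absurd (Finset.mem_univ _) h
  clear_value F
  let R : X → Matrix (Fin 2 ⊕ Fin 2) (Fin 2 ⊕ Fin 2) (ZMod 2) := fun g => LinearMap.toMatrix' (F g)
  have hR1 : R 1 = 1 := by
    rw [show R 1 = LinearMap.toMatrix' (F 1) from rfl, show F 1 = LinearMap.id from LinearMap.ext fun f => by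
      obtain ⟨x, rfl⟩ := hψs f
      rw [hF, map_one, MulAut.one_apply]
      rfl, LinearMap.toMatrix'_id]
  have hRmul : ∀ g h, R (g * h) = R g * R h := fun g h => by
    rw [show R g * R h = LinearMap.toMatrix' (F g ∘ₗ F h) from (LinearMap.toMatrix'_comp _ _).symm]
    refine congrArg (fun L => LinearMap.toMatrix' L) (LinearMap.ext fun f => ?_)
    obtain ⟨x, rfl⟩ := hψs f
    rw [LinearMap.comp_apply, hF, hF, hF, map_mul, MulAut.mul_apply]
    rfl
  have hRmem : ∀ g : X, R g ∈ Matrix.symplecticGroup (Fin 2) (ZMod 2) := by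
    intro g
    rw [SymplecticGroup.mem_iff']
    refine Matrix.ext fun i j => ?_
    have h1 : ∀ k i, R g k i = ψ (Additive.ofMul (P.act g (e i))) k := fun k i => by
      show LinearMap.toMatrix' (F g) k i = _
      rw [LinearMap.toMatrix'_apply, ← hψe i]
      exact congrFun (hF g (Additive.ofMul (e i))) k
    have h2 : β (P.act g (e i)) (P.act g (e j)) = β (e i) (e j) := by
      simp only [β, P.inv]
    rw [hpair, hpair, hψe, hψe] at h2
    simp only [← h1] at h2
    rw [show ∑ x, ∑ y, (Pi.single i (1 : ZMod 2) : Fin 2 ⊕ Fin 2 → ZMod 2) x * Matrix.J (Fin 2) (ZMod 2) x y *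
        (Pi.single j 1 : Fin 2 ⊕ Fin 2 → ZMod 2) y = Matrix.J (Fin 2) (ZMod 2) i j by
      simp [Pi.single_apply]] at h2
    rw [← h2, Matrix.mul_apply, Finset.sum_comm]
    refine Finset.sum_congr rfl fun y _ => ?_
    rw [Matrix.mul_apply, Finset.sum_mul]
    rfl
  let ρ : X →* Matrix.symplecticGroup (Fin 2) (ZMod 2) :=
    { toFun := fun g => ⟨R g, hRmem g⟩
      map_one' := Subtype.ext hR1
      map_mul' := fun g h => Subtype.ext (hRmul g h) }
  have hρ : Function.Injective ρ := by
    intro g h e0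
    refine P.inj (MulEquiv.ext fun v => ?_)
    have h3 := LinearMap.congr_fun (LinearMap.toMatrix'.injective (congrArg Subtype.val e0 : R g = R h))
      (ψ (Additive.ofMul v))
    rw [hF, hF] at h3
    exact Additive.ofMul.injective (hψb.1 h3)
  obtain ⟨s6⟩ := Cfsg.Agent.LinearGroup.Sp42.equiv
  exact ⟨s6.toMonoidHom.comp ρ, s6.injective.comp hρ⟩

theorem bnd_sixteen : Bnd 16 2 15 := by
  intro X V _ _ _ _ P hV hexp
  obtain ⟨f, hf⟩ := exists_six P hV hexp
  have h := kk_perm f hf (by simp)
  rw [Nat.card_fin] at h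
  by_contra hlt
  push Not at hlt
  have := Nat.pow_le_pow_left hlt 2
  norm_num at this h
  omega

end Cfsg.Agent.CG26.Symp
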