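import Cfsg.Agent.CG26.Symp.Eight
import Cfsg.Agent.Lib.Solvable.Basic

/-!
# Six dimensions over two elements
-/

set_option autoImplicit false

open scoped Classical

namespace Cfsg.Agent.CG26.Symp

/-- A subgroup containing the stabiliser of a point has index at most the size of the orbit. -/
theorem index_le {X α : Type} [Group X] [Finite α] (H : Subgroup X) (f : X → α)
    (hf : ∀ g h, f g = f h → g⁻¹ * h ∈ H) : H.index ≤ Nat.card α := by
  rw [Subgroup.index_eq_card]
  refine Nat.card_le_card_of_injective (fun q : X ⧸ H => f q.out) fun q q' h => ?_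
  rw [← q.out_eq', ← q'.out_eq', QuotientGroup.eq]
  exact hf _ _ h

theorem prime_pow_small {q d : ℕ} (hq : q.Prime) (hodd : Odd q) (h : q ^ d ∣ 4320) : q ^ d ≤ 27 := by
  have hc : Nat.Coprime (q ^ d) 32 := by
    rw [show (32 : ℕ) = 2 ^ 5 from rfl]
    exact Nat.Coprime.pow _ _ hodd.coprime_two_right
  have h135 : q ^ d ∣ 135 := hc.dvd_of_dvd_mul_left (by simpa using h)
  rcases Nat.eq_zero_or_pos d with rfl | hd
  · simp
  have hq135 : q ∣ 3 ^ 3 * 5 := (dvd_pow_self q hd.ne').trans h135
  rcases hq.dvd_mul.mp hq135 with h | h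
  · obtain rfl := (Nat.prime_dvd_prime_iff_eq hq Nat.prime_three).mp (hq.dvd_of_dvd_pow h)
    exact Nat.le_of_dvd (by norm_num)
      ((Nat.Coprime.pow_left d (by norm_num : Nat.Coprime 3 5)).dvd_of_dvd_mul_right
        (show 3 ^ d ∣ 27 * 5 from h135))
  · obtain rfl := (Nat.prime_dvd_prime_iff_eq hq Nat.prime_five).mp h
    have := Nat.le_of_dvd (by norm_num)
      ((Nat.Coprime.pow_left d (by norm_num : Nat.Coprime 5 27)).dvd_of_dvd_mul_left
        (show 5 ^ d ∣ 27 * 5 from h135))
    omega

namespace Pairing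

variable {Y V : Type} [Group Y] [CommGroup V] (P : Pairing Y V)

/-- No nontrivial normal two-subgroup. -/
theorem no_two [Finite V] (hV : Nat.card V = 64)
    (hTI : ∀ W : Subgroup V, P.Invar W → (∀ u ∈ W, ∀ v ∈ W, P.b u v = 1) → W = ⊥)
    {A : Subgroup Y} [A.Normal] (hA : IsPGroup 2 A) : A = ⊥ := by
  haveI : Fact (Nat.Prime 2) := ⟨Nat.prime_two⟩
  let C : Subgroup V := ⨅ a : A, P.fixed (a : Y)
  have hC : ∀ v, v ∈ C ↔ ∀ a ∈ A, P.act a v = v := fun v => by
    simp only [C, Subgroup.mem_iInf, P.mem_fixed]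
    exact ⟨fun h a ha => h ⟨a, ha⟩, fun h a => h a a.2⟩
  have hCinv : P.Invar C := by
    intro g w hw
    rw [hC] at hw ⊢
    intro a ha
    have h := hw _ ((inferInstance : A.Normal).conj_mem a ha g⁻¹)
    rw [inv_inv, map_mul, map_mul, MulAut.mul_apply, MulAut.mul_apply] at h
    conv_rhs => rw [← h, P.act_inv_apply]
  have hnd : C ⊓ P.perp C = ⊥ := by
    refine hTI _ (fun g w hw => ⟨hCinv g w hw.1, P.invar_perp hCinv g w hw.2⟩) ?_
    intro u hu v hv
    exact hv.2 u hu.1
  by_contra hA1
  have hperp : P.perp C ≠ ⊥ := by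
    intro h
    apply hA1
    rw [Subgroup.eq_bot_iff_forall]
    intro a ha
    refine P.inj (MulEquiv.ext fun v => ?_)
    rw [map_one, MulAut.one_apply]
    refine (hC v).mp ?_ a ha
    have hs := P.sup_perp hnd
    rw [h, sup_bot_eq] at hs
    rw [hs]
    exact Subgroup.mem_top v
  letI : MulAction A (P.perp C) :=
    MulAction.compHom _ ((P.wact (P.perp C) (P.invar_perp hCinv)).comp A.subtype)
  have hfix := hA.card_modEq_card_fixedPoints (P.perp C)
  have heven : 2 ∣ Nat.card (P.perp C) := by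
    obtain ⟨i, -, hi⟩ := (Nat.dvd_prime_pow Nat.prime_two).mp
      (show Nat.card (P.perp C) ∣ 2 ^ 6 by rw [show (2 : ℕ) ^ 6 = Nat.card V from hV.symm]; exact Subgroup.card_subgroup_dvd_card _)
    rcases i with _ | i
    · exact absurd (Subgroup.card_eq_one.mp hi) hperp
    · rw [hi]; exact dvd_pow_self 2 (by omega)
  have h1 : 1 < Nat.card (MulAction.fixedPoints A (P.perp C)) := by
    have hpos : 0 < Nat.card (MulAction.fixedPoints A (P.perp C)) :=
      Nat.card_pos_iff.mpr ⟨⟨⟨1, fun a => map_one ((P.wact (P.perp C) (P.invar_perp hCinv)) (a : Y))⟩⟩, inferInstance⟩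
    unfold Nat.ModEq at hfix
    omega
  haveI := Finite.one_lt_card_iff_nontrivial.mp h1
  obtain ⟨⟨v, hv⟩, hne⟩ := exists_ne (⟨1, fun a => map_one ((P.wact (P.perp C) (P.invar_perp hCinv)) (a : Y))⟩ : MulAction.fixedPoints A (P.perp C))
  have hvC : (v : V) ∈ C := (hC _).mpr fun a ha => congrArg Subtype.val (hv ⟨a, ha⟩)
  have : (v : V) ∈ C ⊓ P.perp C := ⟨hvC, v.2⟩
  rw [hnd, Subgroup.mem_bot] at this
  exact hne (Subtype.ext (Subtype.ext this))

/-- Fixed-point-free action of a group of order nine is impossible. -/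
theorem nine [Finite Y] (hexp : ∀ v : V, v ^ 2 = 1) [Nontrivial V] (A : Subgroup Y)
    (hcomm : ∀ a ∈ A, ∀ c ∈ A, a * c = c * a) (h3 : ∀ a ∈ A, a ^ 3 = 1)
    (hfree : ∀ a ∈ A, a ≠ 1 → ∀ v, P.act a v = v → v = 1) : Nat.card A ≤ 3 := by
  by_contra hlt
  obtain ⟨a, ha, ha1⟩ : ∃ a ∈ A, a ≠ 1 := by
    by_contra h
    push Not at h
    rw [(Subgroup.eq_bot_iff_forall A).mpr h, Subgroup.card_bot] at hlt
    omega
  obtain ⟨c, hc, hcz⟩ : ∃ c ∈ A, c ∉ Subgroup.zpowers a := by
    by_contra h
    push Not at h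
    have h2 := Subgroup.card_le_of_le (show A ≤ Subgroup.zpowers a from h)
    rw [Nat.card_zpowers] at h2
    have := Nat.le_of_dvd (by norm_num) (orderOf_dvd_of_pow_eq_one (h3 a ha))
    omega
  obtain ⟨v, hv⟩ := exists_ne (1 : V)
  have hN : ∀ e ∈ A, e ≠ 1 → ∀ u, u * P.act e u * P.act (e * e) u = 1 := by
    intro e he he1 u
    refine hfree e he he1 _ ?_
    have h3' : e * (e * e) = 1 := by rw [← h3 e he, pow_succ', pow_two]
    have acc : ∀ g h w, P.act g (P.act h w) = P.act (g * h) w := fun g h w => by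
      rw [map_mul P.act, MulAut.mul_apply]
    rw [map_mul (P.act e), map_mul (P.act e), acc, acc, h3', map_one, MulAut.one_apply]
    ac_rfl
  have c1 : c ≠ 1 := fun h => hcz (h ▸ one_mem _)
  have ac1 : a * c ≠ 1 := fun h => hcz (by rw [← inv_eq_of_mul_eq_one_right h]; exact inv_mem (Subgroup.mem_zpowers a))
  have aac1 : a * a * c ≠ 1 := fun h => hcz (by
    rw [← inv_eq_of_mul_eq_one_right h]
    exact inv_mem (mul_mem (Subgroup.mem_zpowers a) (Subgroup.mem_zpowers a)))
  have e1 := hN c hc c1 v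
  have e2 := hN (a * c) (mul_mem ha hc) ac1 v
  have e3 := hN (a * a * c) (mul_mem (mul_mem ha ha) hc) aac1 v
  have e4 := hN a ha ha1 (P.act c v)
  have e5 := hN a ha ha1 (P.act (c * c) v)
  have hac : c * a = a * c := hcomm c hc a ha
  have hc' : Commute c a := hac
  have s1 : a * c * (a * c) = a * a * (c * c) := by
    calc a * c * (a * c) = a * (c * a) * c := by group
      _ = a * (a * c) * c := by rw [hac]
      _ = _ := by group
  have s2 : a * a * c * (a * a * c) = a * (c * c) := by
    have h4 : a * a * (a * a) = a := by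
      calc a * a * (a * a) = a ^ 3 * a := by
            rw [pow_succ, pow_two]; simp only [mul_assoc]
        _ = a := by rw [h3 a ha, one_mul]
    calc a * a * c * (a * a * c) = a * a * (c * (a * a)) * c := by group
      _ = a * a * ((a * a) * c) * c := by rw [(hc'.mul_right hc').eq]
      _ = a * a * (a * a) * (c * c) := by group
      _ = _ := by rw [h4]
  simp only [← MulAut.mul_apply, ← map_mul] at e4 e5
  rw [s1] at e2
  rw [s2] at e3
  have key : v ^ 3 * ((P.act c v * P.act (a * c) v * P.act (a * a * c) v) *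
      (P.act (c * c) v * P.act (a * (c * c)) v * P.act (a * a * (c * c)) v)) = 1 := by
    calc _ = (v * P.act c v * P.act (c * c) v) * (v * P.act (a * c) v * P.act (a * a * (c * c)) v) *
          (v * P.act (a * a * c) v * P.act (a * (c * c)) v) := by
          rw [pow_succ, pow_two]; ac_rfl
      _ = 1 := by rw [e1, e2, e3, one_mul, one_mul]
  rw [e4, e5, one_mul, mul_one, pow_succ, hexp, one_mul] at key
  exact hv key

include P in
/-- A group centralising an element of order three without fixed points. -/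
theorem kk_cent_three [Finite Y] [Finite V] (hV : Nat.card V = 64) (hexp : ∀ v : V, v ^ 2 = 1)
    {a : Y} (ha : a * a ≠ 1) (H : Subgroup Y) (hH : ∀ h ∈ H, h * a = a * h) : kk H ≤ 960 := by
  obtain ⟨x, hx⟩ : ∃ x, P.b x (P.act a x) ≠ 1 := by
    by_contra h
    push Not at h
    apply ha
    refine P.inj (MulEquiv.ext fun v => ?_)
    rw [map_one, MulAut.one_apply]
    by_contra hne
    have hadj : ∀ u w, P.b u (P.act a w) = P.b (P.act a u) w := by
      intro u w
      have h2 := h (u * w)
      rw [map_mul, P.mul_left, P.mul_right, P.mul_right, h u, h w, one_mul, mul_one] at h2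
      rw [P.swap w (P.act a u)]
      exact eq_inv_of_mul_eq_one_left h2
    obtain ⟨w, hw⟩ := P.nondeg (P.act (a * a) v * v⁻¹) (fun e => hne (mul_inv_eq_one.mp e))
    apply hw
    rw [P.mul_left, map_mul, MulAut.mul_apply, ← hadj, P.inv, ← P.mul_left, mul_inv_cancel, P.one_left]
  obtain ⟨hnd, h4⟩ := P.pair_nd hexp hx
  set W := Subgroup.closure ({x, P.act a x} : Set V) with hWdef
  let Q := P.onSub H
  let K : Subgroup H :=
    { carrier := {h | P.act (h : Y) x = x}
      one_mem' := by simp
      mul_mem' := fun {g h} hg hh => by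
        simp only [Set.mem_setOf_eq] at hg hh ⊢
        rw [Subgroup.coe_mul, map_mul, MulAut.mul_apply, hh, hg]
      inv_mem' := fun {g} hg => by
        simp only [Set.mem_setOf_eq] at hg ⊢
        conv_lhs => rw [← hg, Subgroup.coe_inv]
        simpa using P.act_inv_apply (g : Y)⁻¹ x }
  have hidx : K.index ≤ Nat.card V := index_le K (fun h => P.act (h : Y) x) fun g h e => by
    show P.act ((g⁻¹ * h : H) : Y) x = x
    rw [Subgroup.coe_mul, map_mul, MulAut.mul_apply, ← e, Subgroup.coe_inv]
    simpa using P.act_inv_apply (g : Y)⁻¹ x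
  let R := Q.onSub K
  have hfix : ∀ k : K, ∀ w ∈ W, R.act k w = w := by
    intro k w hw
    show P.act ((k : H) : Y) w = w
    have : W ≤ (P.act ((k : H) : Y)).toMonoidHom.eqLocus (MonoidHom.id V) := by
      rw [hWdef, Subgroup.closure_le]
      intro s hs
      have hk : P.act ((k : H) : Y) x = x := k.2
      show P.act ((k : H) : Y) s = s
      rcases hs with rfl | hs
      · exact hk
      · rw [Set.mem_singleton_iff.mp hs, ← MulAut.mul_apply, ← map_mul, hH _ (k : H).2, map_mul,
          MulAut.mul_apply, hk]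
    exact this hw
  have hW : R.Invar W := fun k w hw => by rw [hfix k w hw]; exact hw
  have hnd' : W ⊓ R.perp W = ⊥ := hnd
  have hker : (R.wact W hW).ker = ⊤ := eq_top_iff.mpr fun k _ => R.mem_wact_ker.mpr (hfix k)
  have hcp : Nat.card (R.perp W) = 16 := by
    have h := R.card_perp W
    rw [h4, hV] at h
    omega
  have h15 : kk K ≤ 15 := by
    have h := bnd_sixteen _ _ (R.kerPair W hW hnd') hcp fun v => Subtype.ext (hexp v)
    rwa [kk_congr ((MulEquiv.subgroupCongr hker).trans Subgroup.topEquiv)] at h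
  calc kk H ≤ K.index * kk K := kk_index K
    _ ≤ 64 * 15 := Nat.mul_le_mul (hidx.trans hV.le) h15
    _ = _ := rfl

/-- A group normalising a group of order seven without fixed points. -/
theorem kk_seven [Finite Y] [Finite V] (hV : Nat.card V = 64) (A : Subgroup Y) [A.Normal]
    (h7 : Nat.card A = 7) (hfree : ∀ a ∈ A, a ≠ 1 → ∀ v, P.act a v = v → v = 1)
    (X : Subgroup Y) : kk X ≤ 2187 := by
  let s : Setoid {v : V // v ≠ 1} :=
    { r := fun u w => ∃ a ∈ A, P.act a u.1 = w.1
      iseqv := ⟨fun u => ⟨1, one_mem _, by simp⟩,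
        fun {u w} ⟨a, ha, e⟩ => ⟨a⁻¹, inv_mem ha, by rw [← e]; simpa using P.act_inv_apply a⁻¹ u.1⟩,
        fun {u w z} ⟨a, ha, e⟩ ⟨c, hc, e'⟩ => ⟨c * a, mul_mem hc ha, by
          rw [map_mul, MulAut.mul_apply, e, e']⟩⟩ }
  have hequiv : ∀ (g : Y) (u w : {v : V // v ≠ 1}), s.r u w → s.r (P.permNe g u) (P.permNe g w) := by
    rintro g u w ⟨a, ha, e⟩
    refine ⟨g * a * g⁻¹, (inferInstance : A.Normal).conj_mem a ha g, ?_⟩
    show P.act (g * a * g⁻¹) (P.act g u.1) = P.act g w.1
    rw [← MulAut.mul_apply, ← map_mul, inv_mul_cancel_right, map_mul, MulAut.mul_apply, e]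
  let f : Y → Quotient s → Quotient s := fun g => Quotient.map (P.permNe g) (hequiv g)
  have f1 : ∀ q, f 1 q = q := fun q => Quotient.inductionOn q fun u => by
    show Quotient.mk s (P.permNe 1 u) = Quotient.mk s u
    rw [map_one, Equiv.Perm.one_apply]
  have fmul : ∀ g h q, f (g * h) q = f g (f h q) := fun g h q => Quotient.inductionOn q fun u => by
    show Quotient.mk s (P.permNe (g * h) u) = Quotient.mk s (P.permNe g (P.permNe h u))
    rw [map_mul, Equiv.Perm.mul_apply]
  letI : MulAction Y (Quotient s) :=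
    { smul := f, one_smul := f1, mul_smul := fmul }
  let π : X →* Equiv.Perm (Quotient s) := (MulAction.toPermHom Y (Quotient s)).comp X.subtype
  have hfib : ∀ q : Quotient s, Nat.card {u : {v : V // v ≠ 1} // Quotient.mk s u = q} = 7 := by
    intro q
    induction q using Quotient.inductionOn with
    | _ u =>
      rw [← h7]
      refine (Nat.card_congr (Equiv.ofBijective (fun a : A => (⟨P.permNe a u,
        Quotient.sound ⟨(a : Y)⁻¹, inv_mem a.2, by
          show P.act (a : Y)⁻¹ (P.act (a : Y) u.1) = u.1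
          simpa using P.act_inv_apply (a : Y)⁻¹ u.1⟩⟩ :
          {w : {v : V // v ≠ 1} // Quotient.mk s w = Quotient.mk s u})) ⟨?_, ?_⟩)).symm
      · intro a c e
        have e' : P.act (a : Y) u.1 = P.act (c : Y) u.1 := congrArg (fun w => w.1.1) e
        by_contra hne
        refine u.2 (hfree ((c : Y)⁻¹ * a) (mul_mem (inv_mem c.2) a.2) (fun h => hne (Subtype.ext
          (inv_mul_eq_one.mp h).symm)) u.1 ?_)
        rw [map_mul, MulAut.mul_apply, e']
        simpa using P.act_inv_apply (c : Y)⁻¹ u.1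
      · rintro ⟨w, hw⟩
        obtain ⟨a, ha, e⟩ := Quotient.exact hw.symm
        exact ⟨⟨a, ha⟩, Subtype.ext (Subtype.ext e)⟩
  have hΩ : Nat.card (Quotient s) = 9 := by
    have h63 : Nat.card {v : V // v ≠ 1} = 63 := by rw [card_ne, hV]
    haveI := Fintype.ofFinite (Quotient s)
    rw [← Nat.card_congr (Equiv.sigmaFiberEquiv (Quotient.mk s)), Nat.card_sigma,
      Finset.sum_congr rfl (fun q _ => hfib q), Finset.sum_const, Finset.card_univ, smul_eq_mul] at h63
    rw [Nat.card_eq_fintype_card]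
    omega
  have hrange : kk π.range ≤ 81 := by
    have h := kk_perm π.range.subtype (Subgroup.subtype_injective _) (by rw [hΩ]; norm_num)
    rw [hΩ] at h
    exact (Nat.pow_le_pow_iff_left two_ne_zero).mp (h.trans (by norm_num : 3 ^ (9 - 1) ≤ 81 ^ 2))
  have hker : kk π.ker ≤ 7 := by
    refine (kk_le_card _).trans (le_trans ?_ h7.le)
    have key : ∀ g : π.ker, ((g : X) : Y) ∈ A := by
      intro g
      set y : Y := ((g : X) : Y) with hy
      have hloc : ∀ v : V, v ≠ 1 → ∃ a ∈ A, P.act y v = P.act a v := by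
        intro v hv
        have h := Equiv.ext_iff.mp (MonoidHom.mem_ker.mp g.2) (Quotient.mk s ⟨v, hv⟩)
        obtain ⟨a, ha, e⟩ := Quotient.exact h.symm
        exact ⟨a, ha, e.symm⟩
      choose! α hαA hα using hloc
      let U : Y → Subgroup V := fun a => (P.act y).toMonoidHom.eqLocus (P.act a).toMonoidHom
      have hU : ∀ a v, v ∈ U a ↔ P.act y v = P.act a v := fun a v => Iff.rfl
      have heq : ∀ a ∈ A, ∀ c ∈ A, ∀ v, v ≠ 1 → P.act a v = P.act c v → a = c := by
        intro a ha c hc v hv e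
        by_contra hne
        refine hv (hfree (c⁻¹ * a) (mul_mem (inv_mem hc) ha) (fun h => hne (inv_mul_eq_one.mp h).symm) v ?_)
        rw [map_mul, MulAut.mul_apply, e]
        simpa using P.act_inv_apply c⁻¹ v
      have hbig : ∀ x, x ≠ 1 → 15 ≤ Nat.card (U (α x)) := by
        intro x hx
        have hxU : x ∈ U (α x) := hα x hx
        have hne : ∀ u : {u : V // u ∉ U (α x)}, u.1 ≠ 1 ∧ x * u.1 ≠ 1 := fun u =>
          ⟨fun e => u.2 (e ▸ one_mem _), fun e => u.2 (inv_eq_of_mul_eq_one_right e ▸ inv_mem hxU)⟩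
        have h49 : Nat.card {u : V // u ∉ U (α x)} ≤ 49 := by
          refine (Nat.card_le_card_of_injective (fun u : {u : V // u ∉ U (α x)} =>
            ((⟨α u.1, hαA _ (hne u).1⟩, ⟨α (x * u.1), hαA _ (hne u).2⟩) : A × A)) ?_).trans
            (by rw [Nat.card_prod, h7])
          intro u w e
          have ec : α u.1 = α w.1 := congrArg (fun p : A × A => (p.1 : Y)) e
          have ed : α (x * u.1) = α (x * w.1) := congrArg (fun p : A × A => (p.2 : Y)) e
          have h1 := hα u.1 (hne u).1
          have h2 := hα w.1 (hne w).1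
          have h3 := hα _ (hne u).2
          have h4 := hα _ (hne w).2
          rw [← ec] at h2
          rw [← ed] at h4
          by_contra huw
          have hd : u.1 / w.1 ≠ 1 := fun e => huw (Subtype.ext (div_eq_one.mp e))
          have ecd : α u.1 = α (x * u.1) := by
            refine heq _ (hαA _ (hne u).1) _ (hαA _ (hne u).2) _ hd ?_
            have hh3 : P.act y (x * u.1 / (x * w.1)) = P.act (α (x * u.1)) (x * u.1 / (x * w.1)) := by
              rw [map_div, map_div, h3, h4]
            rw [mul_div_mul_left_eq_div] at hh3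
            rw [← hh3, map_div, map_div, h1, h2]
          have hxc : x ∈ U (α u.1) := by
            have hu : u.1 ∈ U (α u.1) := h1
            have hxu : x * u.1 ∈ U (α u.1) := by rw [hU, ecd]; exact h3
            simpa using mul_mem hxu (inv_mem hu)
          have := heq _ (hαA x hx) _ (hαA _ (hne u).1) x hx ((hα x hx).symm.trans hxc)
          exact u.2 (show P.act y u.1 = P.act (α x) u.1 from h1.trans (congrArg (fun b => P.act b u.1) this.symm))
        haveI := Fintype.ofFinite V
        have hs : Nat.card (U (α x)) + Nat.card {u : V // u ∉ U (α x)} = Nat.card V := by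
          rw [← Nat.card_sum]
          exact Nat.card_congr (Equiv.sumCompl fun u => u ∈ U (α x))
        omega
      haveI : Nontrivial V := Finite.one_lt_card_iff_nontrivial.mp (by omega)
      obtain ⟨x0, hx0⟩ := exists_ne (1 : V)
      have hall : ∀ v, v ≠ 1 → α v = α x0 := by
        intro v hv
        by_contra hne
        have hdis : Disjoint (U (α v)) (U (α x0)) := by
          rw [disjoint_iff, eq_bot_iff]
          intro u hu
          rw [Subgroup.mem_bot]
          by_contra hu1
          exact hne (heq _ (hαA v hv) _ (hαA x0 hx0) u hu1 (hu.1.symm.trans hu.2))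
        have h := Nat.card_le_card_of_injective _ (Subgroup.mul_injective_of_disjoint hdis)
        rw [Nat.card_prod, hV] at h
        have := Nat.mul_le_mul (hbig v hv) (hbig x0 hx0)
        omega
      have : y = α x0 := P.inj (MulEquiv.ext fun v => by
        rcases eq_or_ne v 1 with rfl | hv
        · simp
        · rw [hα v hv, hall v hv])
      rw [this]
      exact hαA x0 hx0
    exact Nat.card_le_card_of_injective (fun g => (⟨((g : X) : Y), key g⟩ : A))
      fun g h e => Subtype.ext (Subtype.ext (congrArg (fun a : A => (a : Y)) e))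
  calc kk X ≤ kk π.ker * kk π.range := kk_split π
    _ ≤ 7 * 81 := Nat.mul_le_mul hker hrange
    _ ≤ _ := by norm_num

theorem bnd_sixtyfour [Finite Y] [Finite V] [Group.IsSolvable Y] (hV : Nat.card V = 64)
    (hexp : ∀ v : V, v ^ 2 = 1)
    (hTI : ∀ W : Subgroup V, P.Invar W → (∀ u ∈ W, ∀ v ∈ W, P.b u v = 1) → W = ⊥)
    (X : Subgroup Y) : kk X ≤ 2187 := by
  rcases subsingleton_or_nontrivial Y with h | h
  · exact (kk_le_card _).trans (le_trans (Finite.card_le_one_iff_subsingleton.mpr inferInstance) (by norm_num))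
  haveI : Nontrivial V := Finite.one_lt_card_iff_nontrivial.mp (by omega)
  obtain ⟨A, q, hAn, hA1, -, hq, hAq, hAc, hAe, d, hd, hAd⟩ :=
    Cfsg.Agent.Solvable.exists_minimal_normal_elementary Y
  haveI := hAn
  have hq2 : q ≠ 2 := by
    rintro rfl
    exact hA1 (P.no_two hV hTI hAq)
  have hodd : Odd q := hq.odd_of_ne_two hq2
  have hcomm : ∀ a ∈ A, ∀ c ∈ A, a * c = c * a := fun a ha c hc =>
    congrArg Subtype.val (hAc.1.1 ⟨a, ha⟩ ⟨c, hc⟩)
  -- the centraliser of an element inside a subgroup
  have hcent : ∀ a ∈ A, ∀ n, Nat.card A ≤ n + 1 → a ≠ 1 → ∀ k,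
      kk ((Subgroup.centralizer {a}).subgroupOf X) ≤ k → kk X ≤ n * k := by
    intro a ha n hn ha1 k hk
    refine (kk_index ((Subgroup.centralizer {a}).subgroupOf X)).trans (Nat.mul_le_mul ?_ hk)
    refine le_trans (index_le _ (fun g : X => (⟨⟨(g : Y) * a * (g : Y)⁻¹, hAn.conj_mem a ha g⟩,
      fun e => ha1 (by exact conj_eq_one_iff.mp (congrArg Subtype.val e))⟩ :
      {c : A // c ≠ 1})) fun g h e => ?_) ?_
    · have e' : (g : Y) * a * (g : Y)⁻¹ = h * a * (h : Y)⁻¹ := congrArg (fun c => ((c.1 : A) : Y)) e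
      rw [Subgroup.mem_subgroupOf, Subgroup.mem_centralizer_singleton_iff]
      push_cast
      calc (g : Y)⁻¹ * h * a = (g : Y)⁻¹ * (h * a * (h : Y)⁻¹) * h := by group
        _ = a * ((g : Y)⁻¹ * h) := by rw [← e']; group
    · haveI := Fintype.ofFinite A
      rw [Nat.card_eq_fintype_card, Fintype.card_subtype_compl, Fintype.card_subtype_eq,
        ← Nat.card_eq_fintype_card]
      omega
  by_cases hfree : ∀ a ∈ A, a ≠ 1 → ∀ v, P.act a v = v → v = 1
  swap
  · push Not at hfree
    obtain ⟨a, ha, ha1, v, hv, hv1⟩ := hfree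
    have hnd := P.fixed_nd hexp (hAe a ha) hodd
    have h1 : P.fixed a ≠ ⊥ := fun e => hv1 (Subgroup.mem_bot.mp (e ▸ hv : v ∈ (⊥ : Subgroup V)))
    have h2 : P.fixed a ≠ ⊤ := fun e => ha1 (P.inj (MulEquiv.ext fun u => by
      rw [map_one, MulAut.one_apply]
      exact (e ▸ Subgroup.mem_top u : u ∈ P.fixed a)))
    have hinv : ∀ g, g * a = a * g → ∀ w ∈ P.fixed a, P.act g w ∈ P.fixed a := by
      intro g hg w hw
      rw [P.mem_fixed] at hw ⊢
      rw [← MulAut.mul_apply, ← map_mul, ← hg, map_mul, MulAut.mul_apply, hw]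
    have h27 : Nat.card A ≤ 27 := by
      have h := (P.onSub A).card_dvd_of_nd hV hexp (W := P.fixed a)
        (fun g w hw => hinv g (hcomm g g.2 a ha) w hw) hnd h1 h2
      rw [hAd] at h ⊢
      exact prime_pow_small hq hodd h
    refine (hcent a ha 26 (by omega) ha1 45 ?_).trans (by norm_num)
    exact ((P.onSub X).onSub _).kk_of_nd hV hexp (W := P.fixed a)
      (fun g w hw => hinv _ (Subgroup.mem_centralizer_singleton_iff.mp g.2) w hw) hnd h1 h2
  -- free action
  have hdvd : Nat.card A ∣ 63 := by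
    letI : MulAction A {v : V // v ≠ 1} := MulAction.compHom _ (P.permNe.comp A.subtype)
    have hs : ∀ u : {v : V // v ≠ 1}, MulAction.stabilizer A u = ⊥ := fun u => by
      rw [Subgroup.eq_bot_iff_forall]
      intro a ha
      by_contra hne
      exact u.2 (hfree a a.2 (fun e => hne (Subtype.ext e)) u.1 (congrArg Subtype.val ha))
    have h63 : Nat.card {v : V // v ≠ 1} = 63 := by rw [card_ne, hV]
    refine ⟨Nat.card (MulAction.orbitRel.Quotient A {v : V // v ≠ 1}), ?_⟩
    rw [← h63, mul_comm, ← Nat.card_prod]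
    exact Nat.card_congr (MulAction.selfEquivOrbitsQuotientProd hs)
  rw [hAd] at hdvd
  have hq37 : q = 3 ∨ q = 7 := by
    have h : q ∣ 3 ^ 2 * 7 := (dvd_pow_self q hd.ne').trans hdvd
    rcases hq.dvd_mul.mp h with h | h
    · exact Or.inl ((Nat.prime_dvd_prime_iff_eq hq Nat.prime_three).mp (hq.dvd_of_dvd_pow h))
    · exact Or.inr ((Nat.prime_dvd_prime_iff_eq hq (by norm_num)).mp h)
  obtain ⟨a, ha, ha1⟩ : ∃ a ∈ A, a ≠ 1 := by
    by_contra h
    push Not at h
    exact hA1 ((Subgroup.eq_bot_iff_forall A).mpr h)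
  rcases hq37 with rfl | rfl
  · have h3 := P.nine hexp A hcomm hAe hfree
    refine (hcent a ha 2 (by omega) ha1 960 ?_).trans (by norm_num)
    have haa : a * a ≠ 1 := fun e => ha1 (by
      have := hAe a ha; rwa [pow_succ, pow_two, e, one_mul] at this)
    refine le_trans (le_of_eq (kk_congr ?_)) (P.kk_cent_three hV hexp haa
      (((Subgroup.centralizer {a}).subgroupOf X).map X.subtype) ?_)
    · exact Subgroup.equivMapOfInjective _ _ X.subtype_injective
    · rintro _ ⟨g, hg, rfl⟩
      exact Subgroup.mem_centralizer_singleton_iff.mp hg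
  · refine P.kk_seven hV A ?_ hfree X
    rw [hAd]
    rcases d with _ | _ | d
    · omega
    · norm_num
    · exfalso
      have h49 : 7 ^ 2 ∣ 63 := (pow_dvd_pow 7 (by omega)).trans hdvd
      norm_num at h49

end Pairing

end Cfsg.Agent.CG26.Symp
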