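import Cfsg.Agent.CG26.Symp.Basic

/-!
# Two and four dimensional symplectic modules
-/

set_option autoImplicit false

open scoped Classical

namespace Cfsg.Agent.CG26.Symp

/-- The class number from the centralisers outside a small set. -/
theorem kk_of_centralizers {X : Type} [Group X] [Finite X] (S : Set X) (h1 : (1 : X) ∈ S) {c M : ℕ}
    (hc : S.ncard ≤ c) (hM : ∀ g, g ∉ S → Nat.card {y : X // Commute g y} ≤ M) (hM1 : 1 ≤ M) :
    kk X ≤ c + M - 1 := by
  haveI : Fintype X := Fintype.ofFinite X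
  have h := Cfsg.Agent.S4200.card_commuting_pairs (X := X)
  rw [← Finset.sum_filter_add_sum_filter_not Finset.univ (· ∈ S)] at h
  have hn1 : (Finset.univ.filter (fun g : X => g ∈ S)).card ≤ c := by
    refine le_trans (le_of_eq ?_) hc
    rw [← Set.ncard_coe_finset]
    congr 1
    ext g
    simp
  have hn2 : (Finset.univ.filter (fun g : X => ¬ g ∈ S)).card ≤ Nat.card X - 1 := by
    have : (Finset.univ.filter (fun g : X => ¬ g ∈ S)) ⊆ Finset.univ.erase 1 := fun g hg => by
      simp only [Finset.mem_filter, Finset.mem_univ, true_and] at hg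
      exact Finset.mem_erase.mpr ⟨fun e => hg (e ▸ h1), Finset.mem_univ _⟩
    refine (Finset.card_le_card this).trans (le_of_eq ?_)
    rw [Finset.card_erase_of_mem (Finset.mem_univ _), Finset.card_univ, Nat.card_eq_fintype_card]
  have b1 := Finset.sum_le_card_nsmul (Finset.univ.filter (fun g : X => g ∈ S))
    (fun g => Nat.card {y : X // Commute g y}) (Nat.card X)
    fun g _ => Nat.card_le_card_of_injective _ Subtype.val_injective
  have b2 := Finset.sum_le_card_nsmul (Finset.univ.filter (fun g : X => ¬ g ∈ S))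
    (fun g => Nat.card {y : X // Commute g y}) M
    fun g hg => hM g (Finset.mem_filter.mp hg).2
  rw [smul_eq_mul] at b1 b2
  have h3 : kk X * Nat.card X ≤ c * Nat.card X + (Nat.card X - 1) * M := by
    rw [← h]
    exact Nat.add_le_add (b1.trans (Nat.mul_le_mul_right _ hn1)) (b2.trans (Nat.mul_le_mul_right _ hn2))
  have hpos : 0 < Nat.card X := Nat.card_pos
  have h4 : kk X < c + M := by
    refine Nat.lt_of_mul_lt_mul_right (a := Nat.card X) (lt_of_le_of_lt h3 ?_)
    rw [Nat.add_mul]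
    refine Nat.add_lt_add_left ?_ _
    rw [Nat.mul_comm M]
    exact Nat.mul_lt_mul_of_pos_right (by omega) (by omega)
  omega

namespace Pairing

variable {X V : Type} [Group X] [CommGroup V] (P : Pairing X V)

theorem eq_of_closure {S : Set V} (hS : Subgroup.closure S = ⊤) {g h : X}
    (he : ∀ s ∈ S, P.act g s = P.act h s) : g = h :=
  P.inj (MulEquiv.toMonoidHom_injective (MonoidHom.eq_of_eqOn_dense hS he))

/-- Permutations of the non-identity elements. -/
noncomputable def permNe : X →* Equiv.Perm {v : V // v ≠ 1} where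
  toFun g :=
    { toFun := fun v => ⟨P.act g v, fun h => v.2 ((map_eq_one_iff _ (P.act g).injective).mp h)⟩
      invFun := fun v => ⟨P.act g⁻¹ v, fun h => v.2 ((map_eq_one_iff _ (P.act g⁻¹).injective).mp h)⟩
      left_inv := fun v => Subtype.ext (by simpa using P.act_inv_apply g⁻¹ (v : V))
      right_inv := fun v => Subtype.ext (P.act_inv_apply g v) }
  map_one' := Equiv.ext fun v => Subtype.ext (by
    show P.act 1 (v : V) = v
    rw [map_one, MulAut.one_apply])
  map_mul' := fun g h => Equiv.ext fun v => Subtype.ext (by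
    show P.act (g * h) (v : V) = P.act g (P.act h v)
    rw [map_mul, MulAut.mul_apply])

theorem permNe_injective : Function.Injective P.permNe := fun g h e => by
  refine P.inj (MulEquiv.ext fun v => ?_)
  rcases eq_or_ne v 1 with rfl | hv
  · simp
  · exact congrArg Subtype.val (Equiv.ext_iff.mp e ⟨v, hv⟩)

theorem card_ne [Finite V] : Nat.card {v : V // v ≠ 1} = Nat.card V - 1 := by
  haveI : Fintype V := Fintype.ofFinite V
  rw [Nat.card_eq_fintype_card, Nat.card_eq_fintype_card, Fintype.card_subtype_compl,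
    Fintype.card_subtype_eq]

theorem pow_eq_of_modEq {p : ℕ} (hexp : ∀ v : V, v ^ p = 1) {a c : ℤ} (h : (p : ℤ) ∣ a - c) (v : V) :
    v ^ a = v ^ c := by
  obtain ⟨k, hk⟩ := h
  rw [show a = c + (p : ℤ) * k by omega, zpow_add, zpow_mul, zpow_natCast, hexp, one_zpow, mul_one]

theorem order_b {p : ℕ} [Fact p.Prime] (hexp : ∀ v : V, v ^ p = 1) {x y : V} (h : P.b x y ≠ 1) :
    orderOf (P.b x y) = p :=
  orderOf_eq_prime (by rw [← P.pow_right, hexp, P.one_right]) h

theorem sign_key {p : ℕ} [Fact p.Prime] (hexp : ∀ v : V, v ^ p = 1) {g : X}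
    (hg : ∀ x, P.act g x ∈ Subgroup.zpowers x) {x y : V} (h : P.b x y ≠ 1) {a c : ℤ}
    (hx : P.act g x = x ^ a) (hy : P.act g y = y ^ c) :
    (p : ℤ) ∣ a - c ∧ (p : ℤ) ∣ a * a - 1 := by
  obtain ⟨d, hd⟩ := Subgroup.mem_zpowers_iff.mp (hg (x * y))
  rw [map_mul, hx, hy, mul_zpow] at hd
  set ζ := P.b x y with hζ
  have hord := P.order_b hexp h
  have e1 := congrArg (fun v => P.b v y) hd
  have e2 := congrArg (fun v => P.b x v) hd
  simp only [P.mul_left, P.zpow_left, P.self, one_zpow, mul_one] at e1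
  simp only [P.mul_right, P.zpow_right, P.self, one_zpow, one_mul] at e2
  have e3 := P.inv g x y
  rw [hx, hy, P.zpow_left, P.zpow_right, ← zpow_mul, ← hζ] at e3
  have d1 : (p : ℤ) ∣ d - a := hord ▸ (orderOf_dvd_sub_iff_zpow_eq_zpow.mpr e1)
  have d2 : (p : ℤ) ∣ d - c := hord ▸ (orderOf_dvd_sub_iff_zpow_eq_zpow.mpr e2)
  have d3 : (p : ℤ) ∣ c * a - 1 := hord ▸ (orderOf_dvd_sub_iff_zpow_eq_zpow.mpr
    (e3.trans (zpow_one ζ).symm))
  have d4 : (p : ℤ) ∣ a - c := by simpa using dvd_sub d2 d1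
  refine ⟨d4, ?_⟩
  have := dvd_add d3 (d4.mul_left a)
  rwa [show c * a - 1 + a * (a - c) = a * a - 1 by ring] at this

/-- Elements fixing every cyclic subgroup: the identity and the inversion. -/
theorem scalar_act [Nontrivial V] {p : ℕ} [Fact p.Prime] (hexp : ∀ v : V, v ^ p = 1) {g : X}
    (hg : ∀ x, P.act g x ∈ Subgroup.zpowers x) :
    (∀ v, P.act g v = v) ∨ (∀ v, P.act g v = v⁻¹) := by
  obtain ⟨x0, hx0⟩ := exists_ne (1 : V)
  obtain ⟨y0, hy0⟩ := P.nondeg x0 hx0
  obtain ⟨a, ha⟩ := Subgroup.mem_zpowers_iff.mp (hg x0)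
  obtain ⟨c, hc⟩ := Subgroup.mem_zpowers_iff.mp (hg y0)
  obtain ⟨hac, ha1⟩ := P.sign_key hexp hg hy0 ha.symm hc.symm
  have hall : ∀ v, P.act g v = v ^ a := by
    intro v
    obtain ⟨t, ht⟩ := Subgroup.mem_zpowers_iff.mp (hg v)
    by_cases hv : P.b x0 v = 1
    · obtain ⟨d, hd⟩ := Subgroup.mem_zpowers_iff.mp (hg (v * y0))
      have hne : P.b x0 (v * y0) ≠ 1 := by rwa [P.mul_right, hv, one_mul]
      obtain ⟨had, -⟩ := P.sign_key hexp hg hne ha.symm hd.symm
      have h5 : P.act g (v * y0) = (v * y0) ^ a :=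
        hd.symm.trans (pow_eq_of_modEq hexp had (v * y0)).symm
      rw [map_mul, ← hc, ← pow_eq_of_modEq hexp hac y0, mul_zpow] at h5
      exact mul_right_cancel h5
    · obtain ⟨hat, -⟩ := P.sign_key hexp hg hv ha.symm ht.symm
      exact ht.symm.trans (pow_eq_of_modEq hexp hat v).symm
  rw [show a * a - 1 = (a - 1) * (a - -1) by ring] at ha1
  rcases (Nat.prime_iff_prime_int.mp (Fact.out : p.Prime)).dvd_or_dvd ha1 with h | h
  · exact Or.inl fun v => by rw [hall, pow_eq_of_modEq hexp h, zpow_one]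
  · exact Or.inr fun v => by rw [hall, pow_eq_of_modEq hexp h, zpow_neg_one]

theorem ncard_scalar [Finite X] [Nontrivial V] {p : ℕ} [Fact p.Prime] (hexp : ∀ v : V, v ^ p = 1) :
    {g : X | ∀ x, P.act g x ∈ Subgroup.zpowers x}.ncard ≤ 2 := by
  refine le_trans (Set.ncard_le_ncard_of_injOn (fun g => (P.act g : V → V))
    (t := {id, fun v => v⁻¹}) ?_ ?_ (Set.toFinite _)) ?_
  · intro g hg
    rcases P.scalar_act hexp hg with h | h
    · exact Or.inl (funext h)
    · exact Or.inr (funext h)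
  · intro g _ h _ e
    exact P.inj (MulEquiv.ext fun v => congrFun e v)
  · exact (Set.ncard_insert_le _ _).trans (by rw [Set.ncard_singleton])

theorem card_fibre_le [Finite V] (a c : V) (s t : ℂˣ) :
    Nat.card {z : V // P.b a z = s ∧ P.b c z = t} ≤
      Nat.card (P.perp (Subgroup.closure {a, c})) := by
  rcases isEmpty_or_nonempty {z : V // P.b a z = s ∧ P.b c z = t} with h | ⟨⟨z0, h0⟩⟩
  · simp
  refine Nat.card_le_card_of_injective (fun z => ⟨z0⁻¹ * z.1, P.perp_closure ?_⟩) fun z w e => ?_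
  · intro r hr
    have hz : P.b r z0 = P.b r z.1 := by
      rcases hr with rfl | hr
      · rw [h0.1, z.2.1]
      · rw [Set.mem_singleton_iff.mp hr, h0.2, z.2.2]
    rw [P.mul_right, ← hz, ← zpow_neg_one, P.zpow_right, zpow_neg_one, inv_mul_cancel]
  · exact Subtype.ext (mul_left_cancel (congrArg Subtype.val e))

end Pairing

theorem card_gt_prime {V : Type} [Group V] [Finite V] {p m : ℕ} (hp : p.Prime)
    (hV : Nat.card V = p ^ m) {H K : Subgroup V} (hlt : H < K) :
    p * Nat.card H ≤ Nat.card K := by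
  obtain ⟨i, -, hi⟩ := (Nat.dvd_prime_pow hp).mp (hV ▸ H.card_subgroup_dvd_card)
  obtain ⟨j, -, hj⟩ := (Nat.dvd_prime_pow hp).mp (hV ▸ K.card_subgroup_dvd_card)
  have h := Subgroup.card_le_of_le hlt.le
  have hne : Nat.card H ≠ Nat.card K := fun e =>
    hlt.ne (Subgroup.eq_of_le_of_card_ge hlt.le e.ge)
  rw [hi, hj] at h hne ⊢
  rw [← pow_succ']
  refine Nat.pow_le_pow_right hp.pos ?_
  have := (Nat.pow_le_pow_iff_right hp.one_lt).mp h
  have : i ≠ j := fun e => hne (by rw [e])
  omega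

theorem card_pair_ge {V : Type} [Group V] [Finite V] {p m : ℕ} (hp : p.Prime)
    (hV : Nat.card V = p ^ m) {x y : V} (hx : x ≠ 1) (hy : y ∉ Subgroup.zpowers x) :
    p ^ 2 ≤ Nat.card (Subgroup.closure ({x, y} : Set V)) := by
  have h1 : (⊥ : Subgroup V) < Subgroup.zpowers x := bot_lt_iff_ne_bot.mpr (by simpa using hx)
  have h2 : Subgroup.zpowers x < Subgroup.closure ({x, y} : Set V) := by
    refine lt_of_le_of_ne (Subgroup.zpowers_le.mpr (Subgroup.subset_closure (by simp))) fun e => hy ?_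
    rw [e]
    exact Subgroup.subset_closure (by simp)
  have a := card_gt_prime hp hV h1
  have c := card_gt_prime hp hV h2
  rw [Subgroup.card_bot, mul_one] at a
  rw [pow_two]
  exact (Nat.mul_le_mul_left p a).trans c

/-- Four points. -/
theorem bnd_four : Bnd 4 2 3 := by
  intro X V _ _ _ _ P hV _
  have h := kk_perm P.permNe P.permNe_injective (by rw [Pairing.card_ne, hV])
  rw [Pairing.card_ne, hV] at h
  have h' : kk X ^ 2 ≤ 3 ^ 2 := h
  exact (Nat.pow_le_pow_iff_left two_ne_zero).mp h'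

/-- Two dimensions. -/
theorem bnd_sq {p : ℕ} (hp : p.Prime) : Bnd (p ^ 2) p (p ^ 2) := by
  intro X V _ _ _ _ P hV hexp
  haveI := Fact.mk hp
  have hp2 : 2 ≤ p ^ 2 := hp.two_le.trans (Nat.le_self_pow two_ne_zero p)
  haveI : Nontrivial V := Finite.one_lt_card_iff_nontrivial.mp (by omega)
  refine (kk_of_centralizers (c := 2) (M := p ^ 2 - 1)
    {g : X | ∀ x, P.act g x ∈ Subgroup.zpowers x}
    (fun x => by simp) (P.ncard_scalar hexp) (fun g hg => ?_) (by omega)).trans (by omega)
  simp only [Set.mem_setOf_eq, not_forall] at hg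
  obtain ⟨x, hx⟩ := hg
  have hx1 : x ≠ 1 := by rintro rfl; exact hx (by simp)
  have htop : Subgroup.closure ({x, P.act g x} : Set V) = ⊤ :=
    Subgroup.eq_top_of_le_card _ (hV ▸ card_pair_ge hp hV hx1 hx)
  rw [← hV, ← Pairing.card_ne]
  refine Nat.card_le_card_of_injective
    (fun h => (⟨P.act h.1 x, fun e => hx1 ((map_eq_one_iff _ (P.act h.1).injective).mp e)⟩ :
      {v : V // v ≠ 1})) fun h k e => ?_
  have e1 : P.act h.1 x = P.act k.1 x := congrArg Subtype.val e
  refine Subtype.ext (P.eq_of_closure htop fun s hs => ?_)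
  rcases hs with rfl | hs
  · exact e1
  · rw [Set.mem_singleton_iff.mp hs]
    calc P.act h.1 (P.act g x) = P.act (h.1 * g) x := by rw [map_mul, MulAut.mul_apply]
      _ = P.act (g * h.1) x := by rw [h.2.eq]
      _ = P.act g (P.act k.1 x) := by rw [map_mul, MulAut.mul_apply, e1]
      _ = P.act (g * k.1) x := by rw [map_mul, MulAut.mul_apply]
      _ = _ := by rw [k.2.eq, map_mul, MulAut.mul_apply]

/-- Four dimensions over three elements. -/
theorem bnd_eightyone : Bnd 81 3 6561 := by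
  intro X V _ _ _ _ P hV hexp
  haveI : Fact (Nat.Prime 3) := ⟨Nat.prime_three⟩
  haveI : Nontrivial V := Finite.one_lt_card_iff_nontrivial.mp (by omega)
  have hV' : Nat.card V = 3 ^ 4 := hV
  refine (kk_of_centralizers (c := 2) (M := 80 * 9 * 9)
    {g : X | ∀ x, P.act g x ∈ Subgroup.zpowers x}
    (fun x => by simp) (P.ncard_scalar hexp) (fun g hg => ?_) (by norm_num)).trans (by norm_num)
  simp only [Set.mem_setOf_eq, not_forall] at hg
  obtain ⟨x, hx⟩ := hg
  have hx1 : x ≠ 1 := by rintro rfl; exact hx (by simp)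
  let W : Subgroup V := Subgroup.closure {x, P.act g x}
  have hW : 9 ≤ Nat.card W := card_pair_ge Nat.prime_three hV' hx1 hx
  -- two more generators
  obtain ⟨z, w, hzw⟩ : ∃ z w : V, Subgroup.closure ({x, P.act g x, z, w} : Set V) = ⊤ := by
    have sub : ∀ (S T : Set V), S ⊆ T → Subgroup.closure S ≤ Subgroup.closure T :=
      fun S T h => Subgroup.closure_mono h
    by_cases ht : W = ⊤
    · exact ⟨x, x, top_le_iff.mp (ht ▸ sub _ _ (by grind))⟩
    obtain ⟨z, hz⟩ : ∃ z, z ∉ W := by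
      by_contra h
      push Not at h
      exact ht (W.eq_top_iff'.mpr h)
    let W2 : Subgroup V := Subgroup.closure {x, P.act g x, z}
    have h2 : 27 ≤ Nat.card W2 := by
      refine le_trans ?_ (card_gt_prime Nat.prime_three hV' (H := W) (K := W2)
        (lt_of_le_of_ne (sub _ _ (by grind)) fun e => hz (e ▸ Subgroup.subset_closure (by simp))))
      omega
    by_cases ht2 : W2 = ⊤
    · exact ⟨z, x, top_le_iff.mp (ht2 ▸ sub _ _ (by grind))⟩
    obtain ⟨w, hw⟩ : ∃ w, w ∉ W2 := by
      by_contra h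
      push Not at h
      exact ht2 (W2.eq_top_iff'.mpr h)
    refine ⟨z, w, Subgroup.eq_top_of_le_card _ (le_trans ?_ (card_gt_prime Nat.prime_three hV'
      (H := W2) (lt_of_le_of_ne (sub _ _ (by grind)) fun e => hw (e ▸ Subgroup.subset_closure (by simp)))))⟩
    omega
  let T := Σ a : {a : V // a ≠ 1 ∧ P.act g a ∉ Subgroup.zpowers a},
    {u : V // P.b a.1 u = P.b x z ∧ P.b (P.act g a.1) u = P.b (P.act g x) z} ×
      {u : V // P.b a.1 u = P.b x w ∧ P.b (P.act g a.1) u = P.b (P.act g x) w}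
  have hT : Nat.card T ≤ 80 * (9 * 9) := by
    haveI := Fintype.ofFinite {a : V // a ≠ 1 ∧ P.act g a ∉ Subgroup.zpowers a}
    rw [Nat.card_sigma]
    refine (Finset.sum_le_card_nsmul _ _ (9 * 9) fun a _ => ?_).trans ?_
    · rw [Nat.card_prod]
      have hp := P.card_perp (Subgroup.closure ({a.1, P.act g a.1} : Set V))
      have h9 : 3 ^ 2 ≤ _ := card_pair_ge Nat.prime_three hV' a.2.1 a.2.2
      rw [hV] at hp
      have : Nat.card (P.perp (Subgroup.closure ({a.1, P.act g a.1} : Set V))) ≤ 9 := by nlinarith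
      exact Nat.mul_le_mul ((P.card_fibre_le _ _ _ _).trans this) ((P.card_fibre_le _ _ _ _).trans this)
    · rw [smul_eq_mul, Finset.card_univ, ← Nat.card_eq_fintype_card]
      refine Nat.mul_le_mul_right _ ?_
      rw [← show Nat.card {v : V // v ≠ 1} = 80 by rw [Pairing.card_ne, hV]]
      exact Nat.card_le_card_of_injective (fun a => (⟨a.1, a.2.1⟩ : {v : V // v ≠ 1}))
        fun a c e => Subtype.ext (congrArg (fun u : {v : V // v ≠ 1} => u.1) e)
  have hcomm : ∀ h : X, Commute g h → ∀ v, P.act h (P.act g v) = P.act g (P.act h v) := fun h hh v => by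
    rw [← MulAut.mul_apply, ← map_mul, ← hh.eq, map_mul, MulAut.mul_apply]
  refine le_trans (Nat.card_le_card_of_injective (β := T) (fun h => ⟨⟨P.act h.1 x,
      fun e => hx1 ((map_eq_one_iff _ (P.act h.1).injective).mp e), fun e => hx ?_⟩,
    ⟨P.act h.1 z, P.inv h.1 x z, by rw [← hcomm h.1 h.2]; exact P.inv h.1 _ z⟩,
    ⟨P.act h.1 w, P.inv h.1 x w, by rw [← hcomm h.1 h.2]; exact P.inv h.1 _ w⟩⟩) ?_) (by omega)
  · rw [← hcomm h.1 h.2, Subgroup.mem_zpowers_iff] at e
    obtain ⟨i, hi⟩ := e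
    exact Subgroup.mem_zpowers_iff.mpr ⟨i, (P.act h.1).injective (by rw [map_zpow, hi])⟩
  · intro h k e
    have e1 : P.act h.1 x = P.act k.1 x := congrArg (fun t : T => t.1.1) e
    have e2 : P.act h.1 z = P.act k.1 z := congrArg (fun t : T => (t.2.1 : V)) e
    have e3 : P.act h.1 w = P.act k.1 w := congrArg (fun t : T => (t.2.2 : V)) e
    refine Subtype.ext (P.eq_of_closure hzw fun s hs => ?_)
    simp only [Set.mem_insert_iff, Set.mem_singleton_iff] at hs
    rcases hs with rfl | rfl | rfl | rfl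
    · exact e1
    · rw [hcomm h.1 h.2, hcomm k.1 k.2, e1]
    · exact e2
    · exact e3

end Cfsg.Agent.CG26.Symp
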